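import Cfsg.Agent.Perm.CyclicZ.Setup
import Mathlib.Combinatorics.Enumerative.DoubleCounting

/-!
# Counting involutions

With `s` the involution of `K`, `D` its number of fixed points and `q = |K : C_K(t)|`, we get
`n - D = q D (D - 1)`.
-/

set_option autoImplicit false
set_option linter.unusedSectionVars false
set_option linter.style.haveILetI false

namespace CfsgLib.CyclicZ

open MulAction Subgroup

universe u

variable {G : Type u} [Group G] {Ω : Type u} [MulAction G Ω] [Finite G] [Finite Ω] {a : G} {ω : Ω}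

namespace Hyp

variable (H : Hyp a ω)

include H

/-- `z ↦ z⁻¹ z ^ t` on `K`. -/
noncomputable def phi : KOf a ω →* KOf a ω :=
  MonoidHom.mk' (fun z => ⟨(z : G)⁻¹ * (tOf a Ω * z * tOf a Ω),
    mul_mem (inv_mem z.2) (H.t_conj_K z.2)⟩) fun y z => by
    apply Subtype.ext
    show ((y : G) * z)⁻¹ * (tOf a Ω * ((y : G) * z) * tOf a Ω) =
      (y : G)⁻¹ * (tOf a Ω * y * tOf a Ω) * ((z : G)⁻¹ * (tOf a Ω * z * tOf a Ω))
    have h1 : tOf a Ω * ((y : G) * z) * tOf a Ω =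
        (tOf a Ω * y * tOf a Ω) * (tOf a Ω * z * tOf a Ω) := by
      calc tOf a Ω * ((y : G) * z) * tOf a Ω
          = tOf a Ω * y * (tOf a Ω * tOf a Ω) * (z * tOf a Ω) := by rw [H.t_sq]; group
        _ = _ := by group
    have hy := H.t_conj_K y.2
    have hz := H.t_conj_K z.2
    have e : (z : G)⁻¹ * ((y : G)⁻¹ * (tOf a Ω * y * tOf a Ω)) =
        (y : G)⁻¹ * (tOf a Ω * y * tOf a Ω) * (z : G)⁻¹ :=
      H.K_comm (inv_mem z.2) (mul_mem (inv_mem y.2) hy)
    rw [h1, mul_inv_rev]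
    calc (z : G)⁻¹ * (y : G)⁻¹ * (tOf a Ω * y * tOf a Ω * (tOf a Ω * z * tOf a Ω))
        = (z : G)⁻¹ * ((y : G)⁻¹ * (tOf a Ω * y * tOf a Ω)) * (tOf a Ω * z * tOf a Ω) := by group
      _ = _ := by rw [e]; group

/-- `z ↦ z z ^ t` on `K`. -/
noncomputable def psi : KOf a ω →* KOf a ω :=
  MonoidHom.mk' (fun z => ⟨(z : G) * (tOf a Ω * z * tOf a Ω), mul_mem z.2 (H.t_conj_K z.2)⟩)
    fun y z => by
    apply Subtype.ext
    show (y : G) * z * (tOf a Ω * ((y : G) * z) * tOf a Ω) =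
      (y : G) * (tOf a Ω * y * tOf a Ω) * ((z : G) * (tOf a Ω * z * tOf a Ω))
    have h1 : tOf a Ω * ((y : G) * z) * tOf a Ω =
        (tOf a Ω * y * tOf a Ω) * (tOf a Ω * z * tOf a Ω) := by
      calc tOf a Ω * ((y : G) * z) * tOf a Ω
          = tOf a Ω * y * (tOf a Ω * tOf a Ω) * (z * tOf a Ω) := by rw [H.t_sq]; group
        _ = _ := by group
    have e : (z : G) * (tOf a Ω * y * tOf a Ω) = tOf a Ω * y * tOf a Ω * z :=
      H.K_comm z.2 (H.t_conj_K y.2)
    rw [h1]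
    calc (y : G) * z * (tOf a Ω * y * tOf a Ω * (tOf a Ω * z * tOf a Ω))
        = (y : G) * (z * (tOf a Ω * y * tOf a Ω)) * (tOf a Ω * z * tOf a Ω) := by group
      _ = _ := by rw [e]; group

/-- The index of `C_K(t)` in `K`. -/
noncomputable def qOf : ℕ := Nat.card H.phi.range

theorem phi_coe (z : KOf a ω) : ((H.phi z : KOf a ω) : G) = (z : G)⁻¹ * (tOf a Ω * z * tOf a Ω) :=
  rfl

theorem psi_coe (z : KOf a ω) : ((H.psi z : KOf a ω) : G) = (z : G) * (tOf a Ω * z * tOf a Ω) :=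
  rfl

theorem mem_psi_ker {z : KOf a ω} :
    z ∈ H.psi.ker ↔ tOf a Ω * (z : G) * tOf a Ω = (z : G)⁻¹ := by
  rw [MonoidHom.mem_ker, ← Subtype.coe_inj, H.psi_coe, OneMemClass.coe_one]
  constructor
  · intro h; exact (inv_eq_of_mul_eq_one_right h).symm
  · intro h; rw [h, mul_inv_cancel]

theorem mem_phi_ker {z : KOf a ω} :
    z ∈ H.phi.ker ↔ tOf a Ω * (z : G) = (z : G) * tOf a Ω := by
  rw [MonoidHom.mem_ker, ← Subtype.coe_inj, H.phi_coe, OneMemClass.coe_one, inv_mul_eq_one]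
  constructor
  · intro h
    calc tOf a Ω * (z : G) = tOf a Ω * z * (tOf a Ω * tOf a Ω) := by rw [H.t_sq, mul_one]
      _ = tOf a Ω * z * tOf a Ω * tOf a Ω := by group
      _ = _ := by rw [← h]
  · intro h
    rw [h, mul_assoc, H.t_sq, mul_one]

theorem qOf_mul : H.qOf * Nat.card H.phi.ker = Nat.card (KOf a ω) := by
  rw [← Subgroup.card_mul_index H.phi.ker, Subgroup.index_ker, qOf, mul_comm]

theorem phi_range_le : H.phi.range ≤ H.psi.ker := by
  rintro _ ⟨z, rfl⟩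
  rw [H.mem_psi_ker, H.phi_coe]
  calc tOf a Ω * ((z : G)⁻¹ * (tOf a Ω * z * tOf a Ω)) * tOf a Ω
      = tOf a Ω * (z : G)⁻¹ * tOf a Ω * z * (tOf a Ω * tOf a Ω) := by group
    _ = ((z : G)⁻¹ * (tOf a Ω * z * tOf a Ω))⁻¹ := by rw [H.t_sq, mul_inv_rev]; simp [H.t_inv, mul_assoc]

/-- The elements of `K` inverted by `t` outside the image of `phi` form one coset. -/
theorem coset_unique {y y' : KOf a ω} (hy : y ∈ H.psi.ker) (hy' : y' ∈ H.psi.ker)
    (hn : y ∉ H.phi.range) (hn' : y' ∉ H.phi.range) : y⁻¹ * y' ∈ H.phi.range := by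
  haveI := H.K_isCyclic
  obtain ⟨g, hg⟩ := IsCyclic.exists_generator (α := H.psi.ker)
  have hsq : (g : KOf a ω) * g ∈ H.phi.range := by
    refine ⟨(g : KOf a ω)⁻¹, Subtype.ext ?_⟩
    rw [H.phi_coe]
    have h := H.mem_psi_ker.1 g.2
    show (((g : KOf a ω) : G)⁻¹)⁻¹ * (tOf a Ω * ((g : KOf a ω) : G)⁻¹ * tOf a Ω) = _
    rw [inv_inv, ← h]
    calc ((g : KOf a ω) : G) * (tOf a Ω * (tOf a Ω * ((g : KOf a ω) : G) * tOf a Ω) * tOf a Ω)
        = ((g : KOf a ω) : G) * ((tOf a Ω * tOf a Ω) * (g : KOf a ω) * (tOf a Ω * tOf a Ω)) := by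
          group
      _ = _ := by rw [H.t_sq, one_mul, mul_one]; rfl
  have heven : ∀ i : ℤ, Even i → (g : KOf a ω) ^ i ∈ H.phi.range := fun i ⟨j, hj⟩ => by
    rw [hj, ← two_mul, zpow_mul, zpow_two]
    exact zpow_mem hsq j
  obtain ⟨i, hi⟩ := mem_zpowers_iff.1 (hg ⟨y, hy⟩)
  obtain ⟨j, hj⟩ := mem_zpowers_iff.1 (hg ⟨y', hy'⟩)
  have hi' : (g : KOf a ω) ^ i = y := congrArg Subtype.val hi
  have hj' : (g : KOf a ω) ^ j = y' := congrArg Subtype.val hj
  rw [← hi'] at hn ⊢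
  rw [← hj'] at hn' ⊢
  rw [← zpow_neg, ← zpow_add]
  refine heven _ ?_
  rcases Int.even_or_odd i with h1 | h1
  · exact absurd (heven i h1) hn
  rcases Int.even_or_odd j with h2 | h2
  · exact absurd (heven j h2) hn'
  exact h1.neg.add_odd h2

theorem t_mul_range_free {i : KOf a ω} (hi : i ∈ H.phi.range) (x : Ω) :
    (tOf a Ω * (i : G)) • x ≠ x := by
  obtain ⟨z, rfl⟩ := hi
  intro h
  set w : G := (z : G) * tOf a Ω
  have e : tOf a Ω * ((H.phi z : KOf a ω) : G) = w⁻¹ * tOf a Ω * w := by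
    rw [H.phi_coe]
    simp only [w, mul_inv_rev, H.t_inv]
    group
  rw [e, mul_smul, mul_smul, inv_smul_eq_iff] at h
  exact H.t_ne (w • x) h

/-- Every element squaring to one and swapping the base points is `t` times an element of `K`. -/
theorem swap_mem {x : G} (hx : x • ω = tOf a Ω • ω) (hx2 : x * x = 1) :
    ∃ y : KOf a ω, y ∈ H.psi.ker ∧ x = tOf a Ω * y := by
  have hy : tOf a Ω * x ∈ KOf a ω := by
    refine mem_KOf.2 ⟨?_, ?_⟩
    · rw [mul_smul, hx, H.t_smul_smul]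
    · rw [mul_smul, ← hx, ← mul_smul x x, hx2, one_smul, hx]
  refine ⟨⟨_, hy⟩, ?_, ?_⟩
  · rw [H.mem_psi_ker]
    show tOf a Ω * (tOf a Ω * x) * tOf a Ω = (tOf a Ω * x)⁻¹
    rw [← mul_assoc, H.t_sq, one_mul, mul_inv_rev, H.t_inv, inv_eq_of_mul_eq_one_right hx2]
  · show x = tOf a Ω * (tOf a Ω * x)
    rw [← mul_assoc, H.t_sq, one_mul]

theorem swap_sq {y : KOf a ω} (hy : y ∈ H.psi.ker) :
    tOf a Ω * (y : G) * (tOf a Ω * y) = 1 ∧ (tOf a Ω * (y : G)) • ω = tOf a Ω • ω := by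
  refine ⟨?_, by rw [mul_smul, (mem_KOf.1 y.2).1]⟩
  rw [← mul_assoc, H.mem_psi_ker.1 hy, inv_mul_cancel]

omit H in
/-- The involutions with two fixed points. -/
def FixInv (x : G) (Ω : Type u) [MulAction G Ω] : Prop :=
  x * x = 1 ∧ x ≠ 1 ∧ ∃ p q : Ω, p ≠ q ∧ x • p = p ∧ x • q = q

omit H in
theorem fixInv_conj {x g : G} (h : FixInv x Ω) : FixInv (g * x * g⁻¹) Ω := by
  obtain ⟨h2, h1, p, q, hpq, hp, hq⟩ := h
  refine ⟨?_, fun e => h1 (conj_eq_one_iff.1 e), g • p, g • q,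
    fun e => hpq (MulAction.injective g e), ?_, ?_⟩
  · rw [show g * x * g⁻¹ * (g * x * g⁻¹) = g * (x * x) * g⁻¹ by group, h2]; group
  · rw [mul_smul, inv_smul_smul, mul_smul, hp]
  · rw [mul_smul, inv_smul_smul, mul_smul, hq]

variable {s : G}

/-- Any involution with two fixed points is conjugate to `s`. -/
theorem exists_conj_eq (hs : s ∈ KOf a ω) (hs2 : s * s = 1) (hs1 : s ≠ 1) {x : G}
    (hx : FixInv x Ω) : ∃ g : G, g * s * g⁻¹ = x := by
  obtain ⟨h2, h1, p, q, hpq, hp, hq⟩ := hx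
  obtain ⟨g, hgp, hgq⟩ := H.pair (H.t_ne ω).symm hpq
  obtain ⟨h3, h4, -⟩ := fixInv_conj (g := g) (x := s)
    ⟨hs2, hs1, ω, tOf a Ω • ω, (H.t_ne ω).symm, (mem_KOf.1 hs).1, (mem_KOf.1 hs).2⟩
  refine ⟨g, H.fix_pair_unique h3 h2 h4 h1 hpq ?_ ?_ hp hq⟩
  · rw [← hgp, mul_smul, mul_smul, inv_smul_smul, (mem_KOf.1 hs).1]
  · rw [← hgq, mul_smul, mul_smul, inv_smul_smul, (mem_KOf.1 hs).2]

omit H in
theorem ncard_fixedBy_conj (g : G) :
    (fixedBy Ω (g * s * g⁻¹)).ncard = (fixedBy Ω s).ncard := by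
  rw [← Set.ncard_image_of_injective (fixedBy Ω s) (MulAction.injective g)]
  congr 1
  ext x
  simp only [mem_fixedBy, Set.mem_image]
  constructor
  · intro h
    refine ⟨g⁻¹ • x, ?_, smul_inv_smul g x⟩
    rw [mul_smul, mul_smul] at h
    rw [eq_inv_smul_iff]
    exact h
  · rintro ⟨y, hy, rfl⟩
    rw [mul_smul, inv_smul_smul, mul_smul, hy]

/-- The count. -/
theorem count (hs : s ∈ KOf a ω) (hs2 : s * s = 1) (hs1 : s ≠ 1) :
    Nat.card Ω = (fixedBy Ω s).ncard +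
        H.qOf * ((fixedBy Ω s).ncard * ((fixedBy Ω s).ncard - 1)) ∧
      (∀ y : KOf a ω, y ∈ H.psi.ker → y ∉ H.phi.range → FixInv (tOf a Ω * (y : G)) Ω) ∧
      ∃ y : KOf a ω, y ∈ H.psi.ker ∧ y ∉ H.phi.range := by
  classical
  haveI := Fintype.ofFinite G
  haveI := Fintype.ofFinite Ω
  set D := (fixedBy Ω s).ncard with hD
  set C : Finset G := Finset.univ.filter fun x => FixInv x Ω with hC
  set sw : Ω → Ω → Finset G := fun p q => C.filter fun x => x • p = q with hsw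
  have hmemC : ∀ x, x ∈ C ↔ FixInv x Ω := fun x => by simp [hC]
  have hDfin : ∀ x ∈ C, (Finset.univ.filter fun p : Ω => x • p = p).card = D := fun x hx => by
    obtain ⟨g, rfl⟩ := H.exists_conj_eq hs hs2 hs1 ((hmemC x).1 hx)
    rw [hD, ← ncard_fixedBy_conj g, ← Set.ncard_coe_finset]
    congr 1
    ext p
    simp [mem_fixedBy]
  have hpairs : ((Finset.univ : Finset Ω).offDiag).card = Nat.card Ω * (Nat.card Ω - 1) := by
    rw [Finset.offDiag_card, Finset.card_univ, ← Nat.card_eq_fintype_card, Nat.mul_sub_one]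
  -- fixed pairs
  have e1 : C.card * (D * (D - 1)) = Nat.card Ω * (Nat.card Ω - 1) * 1 := by
    rw [← hpairs]
    refine Finset.card_mul_eq_card_mul (r := fun x pq => x • pq.1 = pq.1 ∧ x • pq.2 = pq.2)
      (fun x hx => ?_) fun pq hpq => ?_
    · rw [← hDfin x hx, Nat.mul_sub_one, ← Finset.offDiag_card]
      congr 1
      ext ⟨p, q⟩
      simp only [Finset.bipartiteAbove, Finset.mem_filter, Finset.mem_offDiag, Finset.mem_univ,
        true_and]
      tauto
    · obtain ⟨p, q⟩ := pq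
      have hpq' : p ≠ q := (Finset.mem_offDiag.1 hpq).2.2
      obtain ⟨g, hgp, hgq⟩ := H.pair (H.t_ne ω).symm hpq'
      refine Finset.card_eq_one.2 ⟨g * s * g⁻¹, Finset.ext fun x => ?_⟩
      have hgs : FixInv (g * s * g⁻¹) Ω := fixInv_conj
        ⟨hs2, hs1, ω, tOf a Ω • ω, (H.t_ne ω).symm, (mem_KOf.1 hs).1, (mem_KOf.1 hs).2⟩
      have hp : (g * s * g⁻¹) • p = p := by
        rw [← hgp, mul_smul, mul_smul, inv_smul_smul, (mem_KOf.1 hs).1]
      have hq : (g * s * g⁻¹) • q = q := by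
        rw [← hgq, mul_smul, mul_smul, inv_smul_smul, (mem_KOf.1 hs).2]
      simp only [Finset.bipartiteBelow, Finset.mem_filter, Finset.mem_singleton, hmemC]
      constructor
      · rintro ⟨hx, hxp, hxq⟩
        exact H.fix_pair_unique hx.1 hgs.1 hx.2.1 hgs.2.1 hpq' hxp hxq hp hq
      · rintro rfl
        exact ⟨hgs, hp, hq⟩
  -- moved pairs
  have hswap : ∀ pq ∈ (Finset.univ : Finset Ω).offDiag,
      (sw pq.1 pq.2).card = (sw ω (tOf a Ω • ω)).card := by
    rintro ⟨p, q⟩ hpq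
    obtain ⟨g, hgp, hgq⟩ := H.pair (H.t_ne ω).symm (Finset.mem_offDiag.1 hpq).2.2
    dsimp only at hgp hgq
    refine (Finset.card_bij (fun x _ => g * x * g⁻¹) (fun x hx => ?_) (fun x _ y _ h =>
      mul_left_cancel (mul_right_cancel h)) fun x hx => ⟨g⁻¹ * x * g, ?_, by group⟩).symm
    · simp only [hsw, Finset.mem_filter, hmemC] at hx ⊢
      refine ⟨fixInv_conj hx.1, ?_⟩
      rw [← hgp, mul_smul, mul_smul, inv_smul_smul, hx.2, hgq]
    · simp only [hsw, Finset.mem_filter, hmemC] at hx ⊢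
      refine ⟨?_, ?_⟩
      · have := fixInv_conj (g := g⁻¹) hx.1
        rwa [inv_inv] at this
      · rw [mul_smul, mul_smul, hgp, hx.2, inv_smul_eq_iff, hgq]
  have e2 : C.card * (Nat.card Ω - D) =
      Nat.card Ω * (Nat.card Ω - 1) * (sw ω (tOf a Ω • ω)).card := by
    rw [← hpairs]
    refine Finset.card_mul_eq_card_mul (r := fun x pq => x • pq.1 = pq.2) (fun x hx => ?_)
      fun pq hpq => ?_
    · rw [← hDfin x hx, Nat.card_eq_fintype_card, ← Finset.card_compl]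
      refine Finset.card_bij (fun pq _ => pq.1) (fun pq h => ?_) (fun pq h pq' h' e => ?_)
        fun p hp => ?_
      · simp only [Finset.bipartiteAbove, Finset.mem_filter, Finset.mem_offDiag] at h
        simp only [Finset.mem_compl, Finset.mem_filter, Finset.mem_univ, true_and]
        exact fun e => h.1.2.2 (e.symm.trans h.2)
      · simp only [Finset.bipartiteAbove, Finset.mem_filter] at h h'
        exact Prod.ext e (by rw [← h.2, ← h'.2, e])
      · simp only [Finset.mem_compl, Finset.mem_filter, Finset.mem_univ, true_and] at hp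
        refine ⟨(p, x • p), ?_, rfl⟩
        simp only [Finset.bipartiteAbove, Finset.mem_filter, Finset.mem_offDiag,
          Finset.mem_univ, true_and, and_true]
        exact Ne.symm hp
    · rw [← hswap pq hpq]
      congr 1
  -- the swaps of the base pair with two fixed points
  have hDlt : D < Nat.card Ω := by
    rw [hD, ← Set.ncard_univ]
    refine Set.ncard_lt_ncard (Set.ssubset_univ_iff.2 fun e => hs1 ?_) (Set.toFinite _)
    exact H.eq_one_of_smul_eq_self fun x => (e.symm ▸ Set.mem_univ x : x ∈ fixedBy Ω s)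
  have hnpos : 0 < Nat.card Ω * (Nat.card Ω - 1) := by
    have := H.big
    exact Nat.mul_pos (by omega) (by omega)
  have hCpos : 0 < C.card := by
    by_contra h
    rw [Nat.eq_zero_of_not_pos h] at e1
    omega
  have hne : (sw ω (tOf a Ω • ω)).Nonempty := by
    rw [← Finset.card_pos]
    by_contra h
    rw [Nat.eq_zero_of_not_pos h, mul_zero] at e2
    rcases Nat.mul_eq_zero.1 e2 with h' | h' <;> omega
  obtain ⟨x₁, hx₁⟩ := hne
  simp only [hsw, Finset.mem_filter, hmemC] at hx₁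
  obtain ⟨y₁, hy₁, rfl⟩ := H.swap_mem hx₁.2 hx₁.1.1
  have hy₁n : y₁ ∉ H.phi.range := fun h => by
    obtain ⟨-, -, p, -, -, hp, -⟩ := hx₁.1
    exact H.t_mul_range_free h p hp
  have key : ∀ y : KOf a ω, y ∈ H.psi.ker → y ∉ H.phi.range →
      FixInv (tOf a Ω * (y : G)) Ω := by
    intro y hy hyn
    obtain ⟨z, hz⟩ := H.coset_unique hy₁ hy hy₁n hyn
    have hy' : (y : G) = (y₁ : G) * ((z : G)⁻¹ * (tOf a Ω * z * tOf a Ω)) := by
      rw [← H.phi_coe, hz, Subgroup.coe_mul, InvMemClass.coe_inv, mul_inv_cancel_left]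
    have hc : (y₁ : G) * ((z : G)⁻¹ * (tOf a Ω * z * tOf a Ω)) =
        (z : G)⁻¹ * (tOf a Ω * z * tOf a Ω) * y₁ :=
      H.K_comm y₁.2 (mul_mem (inv_mem z.2) (H.t_conj_K z.2))
    have e : tOf a Ω * (y : G) =
        (tOf a Ω * (z : G)⁻¹ * tOf a Ω) * (tOf a Ω * (y₁ : G)) *
          (tOf a Ω * (z : G)⁻¹ * tOf a Ω)⁻¹ := by
      have hzy : (z : G) * (y₁ : G) = y₁ * z := H.K_comm z.2 y₁.2
      have hcy : (y₁ : G) * (tOf a Ω * z * tOf a Ω) = tOf a Ω * z * tOf a Ω * y₁ :=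
        H.K_comm y₁.2 (H.t_conj_K z.2)
      rw [hy', hc]
      simp only [mul_inv_rev, inv_inv, H.t_inv]
      calc tOf a Ω * ((z : G)⁻¹ * (tOf a Ω * z * tOf a Ω) * y₁)
          = tOf a Ω * (z : G)⁻¹ * (tOf a Ω * z * tOf a Ω * y₁) := by group
        _ = tOf a Ω * (z : G)⁻¹ * ((y₁ : G) * (tOf a Ω * z * tOf a Ω)) := by rw [hcy]
        _ = tOf a Ω * (z : G)⁻¹ * (tOf a Ω * tOf a Ω) * y₁ * (tOf a Ω * (z * tOf a Ω)) := by
            rw [H.t_sq]; group
        _ = _ := by group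
    rw [e]
    exact fixInv_conj hx₁.1
  refine ⟨?_, key, y₁, hy₁, hy₁n⟩
  have hq : (sw ω (tOf a Ω • ω)).card = H.qOf := by
    rw [qOf, Nat.card_eq_fintype_card, ← Finset.card_univ]
    refine (Finset.card_bij (fun (z : H.phi.range) _ => tOf a Ω * ((y₁ * z.1 : KOf a ω) : G))
      (fun z _ => ?_) (fun z _ z' _ h => ?_) fun x hx => ?_).symm
    · simp only [hsw, Finset.mem_filter, hmemC]
      have hk := mul_mem hy₁ (H.phi_range_le z.2)
      refine ⟨key _ hk fun h => hy₁n ?_, (H.swap_sq hk).2⟩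
      have := mul_mem h (inv_mem z.2)
      rwa [mul_inv_cancel_right] at this
    · exact Subtype.ext (mul_left_cancel (Subtype.ext (mul_left_cancel h) : y₁ * z.1 = y₁ * z'.1))
    · simp only [hsw, Finset.mem_filter, hmemC] at hx
      obtain ⟨y, hy, rfl⟩ := H.swap_mem hx.2 hx.1.1
      have hyn : y ∉ H.phi.range := fun h => by
        obtain ⟨-, -, p, -, -, hp, -⟩ := hx.1
        exact H.t_mul_range_free h p hp
      exact ⟨⟨_, H.coset_unique hy₁ hy hy₁n hyn⟩, Finset.mem_univ _,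
        by rw [mul_inv_cancel_left]⟩
  rw [mul_one] at e1
  rw [hq, ← e1, mul_assoc] at e2
  have e3 := Nat.eq_of_mul_eq_mul_left hCpos e2
  rw [mul_comm H.qOf]
  omega

end Hyp

end CfsgLib.CyclicZ
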