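import Cfsg.Agent.Perm.CyclicZ.Count

/-!
# The case of two fixed points

If the involution of `K` fixes exactly two points, then `n - 1` is prime, `|K| = n - 2`, `t` inverts
`K`, and only the identity of `K` fixes a third point.
-/

set_option autoImplicit false
set_option linter.unusedSectionVars false
set_option linter.style.haveILetI false

namespace CfsgLib.CyclicZ

open MulAction Subgroup
open scoped commutatorElement

universe u

variable {G : Type u} [Group G] {Ω : Type u} [MulAction G Ω] [Finite G] [Finite Ω] {a : G} {ω : Ω}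

namespace Hyp

variable (H : Hyp a ω)

include H

theorem fixedBy_two_le {s : G} (hs : s ∈ KOf a ω) : 2 ≤ (fixedBy Ω s).ncard := by
  rw [← Set.ncard_pair (H.t_ne ω).symm]
  refine Set.ncard_le_ncard (fun x hx => ?_) (Set.toFinite _)
  rcases hx with rfl | rfl
  · exact (mem_KOf.1 hs).1
  · exact (mem_KOf.1 hs).2

theorem s_comm_t {s : G} (hs : s ∈ KOf a ω) (hs2 : s * s = 1) (hs1 : s ≠ 1) :
    tOf a Ω * s = s * tOf a Ω := by
  have h := H.t_conj_K hs
  have hsq : tOf a Ω * s * tOf a Ω * (tOf a Ω * s * tOf a Ω) = 1 := by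
    calc tOf a Ω * s * tOf a Ω * (tOf a Ω * s * tOf a Ω)
        = tOf a Ω * s * (tOf a Ω * tOf a Ω) * s * tOf a Ω := by group
      _ = tOf a Ω * (s * s) * tOf a Ω := by rw [H.t_sq, mul_one]; group
      _ = 1 := by rw [hs2, mul_one, H.t_sq]
  rcases H.K_invol_unique h hs hsq hs2 hs1 with e | e
  · exfalso
    apply hs1
    calc s = tOf a Ω * tOf a Ω * s * (tOf a Ω * tOf a Ω) := by rw [H.t_sq, one_mul, mul_one]
      _ = tOf a Ω * (tOf a Ω * s * tOf a Ω) * tOf a Ω := by group
      _ = 1 := by rw [e, mul_one, H.t_sq]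
  · calc tOf a Ω * s = tOf a Ω * s * (tOf a Ω * tOf a Ω) := by rw [H.t_sq, mul_one]
      _ = tOf a Ω * s * tOf a Ω * tOf a Ω := by group
      _ = s * tOf a Ω := by rw [e]

/-- A prime `n - 1` forces two fixed points. -/
theorem two_of_prime {s : G} (hs : s ∈ KOf a ω) (hs2 : s * s = 1) (hs1 : s ≠ 1)
    (hp : (Nat.card Ω - 1).Prime) : (fixedBy Ω s).ncard = 2 := by
  have h2 := H.fixedBy_two_le hs
  obtain ⟨hc, -, -⟩ := H.count hs hs2 hs1
  have hDlt : (fixedBy Ω s).ncard < Nat.card Ω := by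
    rw [← Set.ncard_univ]
    refine Set.ncard_lt_ncard (Set.ssubset_univ_iff.2 fun e => hs1 ?_) (Set.toFinite _)
    exact H.eq_one_of_smul_eq_self fun x => (e.symm ▸ Set.mem_univ x : x ∈ fixedBy Ω s)
  generalize (fixedBy Ω s).ncard = D at h2 hc hDlt ⊢
  obtain ⟨D, rfl⟩ : ∃ D', D = D' + 1 := ⟨D - 1, by omega⟩
  have hd : D ∣ Nat.card Ω - 1 := ⟨1 + H.qOf * (D + 1), by
    rw [hc, Nat.add_sub_cancel,
      show D + 1 + H.qOf * ((D + 1) * D) = D * (1 + H.qOf * (D + 1)) + 1 by ring,
      Nat.add_sub_cancel]⟩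
  rcases hp.eq_one_or_self_of_dvd D hd with h | h <;> omega

variable {s : G}

/-- The case of two fixed points. -/
theorem dOne (hs : s ∈ KOf a ω) (hs2 : s * s = 1) (hs1 : s ≠ 1)
    (hD : (fixedBy Ω s).ncard = 2) :
    (Nat.card Ω - 1).Prime ∧ Nat.card (KOf a ω) = Nat.card Ω - 2 ∧ H.psi.ker = ⊤ ∧
      ∀ z ∈ KOf a ω, ∀ x : Ω, x ≠ ω → x ≠ tOf a Ω • ω → z • x = x → z = 1 := by
  classical
  haveI := Fintype.ofFinite Ω
  haveI := H.zgroup
  obtain ⟨hc, -, y₁, hy₁, hy₁n⟩ := H.count hs hs2 hs1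
  rw [hD] at hc
  have hbig := H.big
  -- `F` is regular away from `ω`
  set F : Subgroup G := ⁅stabilizer G ω, stabilizer G ω⁆ with hF
  have hFle : F ≤ stabilizer G ω := Subgroup.commutator_le_self _
  have hFconj : ∀ g ∈ stabilizer G ω, ∀ f ∈ F, g * f * g⁻¹ ∈ F := fun g hg f hf => by
    have := (Subgroup.commutator_le.2 fun p hp q hq => ?_ :
      F ≤ F.comap (MulAut.conj g).toMonoidHom) hf
    · simpa using this
    · rw [Subgroup.mem_comap, map_commutatorElement]
      exact commutator_mem_commutator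
        (mul_mem (mul_mem hg hp) (inv_mem hg)) (mul_mem (mul_mem hg hq) (inv_mem hg))
  have hFinj : ∀ f ∈ F, ∀ f' ∈ F, ∀ x : Ω, x ≠ ω → f • x = f' • x → f = f' :=
    fun f hf f' hf' x hx h => (inv_mul_eq_one.1 (H.commutator_semiregular
      (mul_mem (inv_mem hf) hf') hx (by rw [mul_smul, ← h, inv_smul_smul])))
  have hne : tOf a Ω • ω ≠ ω := H.t_ne ω
  let g : {x : Ω // x ≠ ω} → G := fun x => (H.pair hne.symm x.2.symm).choose
  have hg : ∀ x, g x • ω = ω ∧ g x • tOf a Ω • ω = x.1 := fun x =>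
    (H.pair hne.symm x.2.symm).choose_spec
  let f1 : {x : Ω // x ≠ ω} → F := fun x => ⟨⁅g x, s⁆,
    commutator_mem_commutator (hg x).1 (mem_KOf.1 hs).1⟩
  have hf1 : Function.Injective f1 := fun x y h => by
    have h' : g x * s * (g x)⁻¹ = g y * s * (g y)⁻¹ := by
      have := congrArg Subtype.val h
      simp only [f1, commutatorElement_def] at this
      exact mul_right_cancel this
    have hfix : ∀ z, (g z * s * (g z)⁻¹) • z.1 = z.1 ∧ (g z * s * (g z)⁻¹) • ω = ω := fun z => by
      constructor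
      · rw [← (hg z).2, mul_smul, mul_smul, inv_smul_smul, (mem_KOf.1 hs).2]
      · conv_lhs => rw [← (hg z).1, mul_smul, mul_smul, inv_smul_smul, (mem_KOf.1 hs).1, (hg z).1]
    by_contra hxy
    have h3 : 3 ≤ (fixedBy Ω (g x * s * (g x)⁻¹)).ncard := by
      have h4 : ({ω, x.1, y.1} : Set Ω).ncard = 3 := Set.ncard_eq_three.2
        ⟨_, _, _, x.2.symm, y.2.symm, fun e => hxy (Subtype.ext e), rfl⟩
      rw [← h4]
      refine Set.ncard_le_ncard (fun z hz => ?_) (Set.toFinite _)
      rcases hz with rfl | rfl | rfl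
      · exact (hfix x).2
      · exact (hfix x).1
      · rw [mem_fixedBy, h']; exact (hfix y).1
    rw [ncard_fixedBy_conj, hD] at h3
    omega
  let f2 : F → {x : Ω // x ≠ ω} := fun f => ⟨(f : G) • tOf a Ω • ω, fun e =>
    hne (MulAction.injective (f : G) (e.trans (hFle f.2 : (f : G) • ω = ω).symm))⟩
  have hf2 : Function.Injective f2 := fun f f' h =>
    Subtype.ext (hFinj _ f.2 _ f'.2 _ hne (congrArg Subtype.val h))
  have hcard : Nat.card {x : Ω // x ≠ ω} = Nat.card Ω - 1 := by
    rw [Nat.card_eq_fintype_card, Nat.card_eq_fintype_card, Fintype.card_subtype_compl,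
      Fintype.card_subtype_eq]
  have hFcard : Nat.card F = Nat.card Ω - 1 :=
    hcard ▸ le_antisymm (Nat.card_le_card_of_injective f2 hf2)
      (Nat.card_le_card_of_injective f1 hf1)
  have hf2s : Function.Surjective f2 :=
    ((Nat.bijective_iff_injective_and_card f2).2 ⟨hf2, by rw [hFcard, hcard]⟩).2
  haveI hFcyc : IsCyclic F := by
    have h1 := IsZGroup.isCyclic_commutator (stabilizer G ω)
    have e := (commutator (stabilizer G ω)).equivMapOfInjective (stabilizer G ω).subtype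
      (stabilizer G ω).subtype_injective
    rw [Subgroup.map_subtype_commutator] at e
    exact isCyclic_of_surjective e e.surjective
  -- `K` acts faithfully on `F`
  have hnorm : KOf a ω ≤ Subgroup.normalizer (F : Set G) := fun z hz => by
    refine Subgroup.mem_normalizer_iff.2 fun f => ⟨fun hf => hFconj z (mem_KOf.1 hz).1 f hf,
      fun hf => ?_⟩
    have := hFconj z⁻¹ (inv_mem (show z ∈ stabilizer G ω from (mem_KOf.1 hz).1)) _ hf
    have e : z⁻¹ * (z * f * z⁻¹) * z⁻¹⁻¹ = f := by group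
    rwa [e] at this
  have hcentral : ∀ z ∈ KOf a ω, (∀ f ∈ F, z * f = f * z) → z = 1 := fun z hz hzc =>
    H.eq_one_of_smul_eq_self fun x => by
      rcases eq_or_ne x ω with rfl | hx
      · exact (mem_KOf.1 hz).1
      obtain ⟨f, hf⟩ := hf2s ⟨x, hx⟩
      have hfx : (f : G) • tOf a Ω • ω = x := congrArg Subtype.val hf
      rw [← hfx, ← mul_smul, hzc f f.2, mul_smul, (mem_KOf.1 hz).2]
  let φ : KOf a ω →* MulAut F :=
    F.normalizerMonoidHom.comp (Subgroup.inclusion hnorm)
  have hφ : Function.Injective φ := by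
    rw [injective_iff_map_eq_one]
    intro z hz
    refine Subtype.ext (hcentral z z.2 fun f hf => ?_)
    have := congrArg (fun e : MulAut F => ((e ⟨f, hf⟩ : F) : G)) hz
    simp only [MulAut.one_apply] at this
    have h : (z : G) * f * (z : G)⁻¹ = f := this
    exact mul_inv_eq_iff_eq_mul.1 h
  have hle : Nat.card (KOf a ω) ≤ (Nat.card Ω - 1).totient := by
    rw [← hFcard, ← IsCyclic.card_mulAut]
    exact Nat.card_le_card_of_injective φ hφ
  have hlt := Nat.totient_lt (Nat.card Ω - 1) (by omega)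
  -- lower bound
  have hsker : (⟨s, hs⟩ : KOf a ω) ∈ H.phi.ker := by
    rw [H.mem_phi_ker]
    exact H.s_comm_t hs hs2 hs1
  have hker : 2 ≤ Nat.card H.phi.ker := by
    haveI : Nontrivial H.phi.ker :=
      ⟨⟨1, ⟨_, hsker⟩, fun e => hs1 (congrArg (fun z : H.phi.ker => ((z : KOf a ω) : G)) e).symm⟩⟩
    exact Finite.one_lt_card_iff_nontrivial.2 inferInstance
  have hk := H.qOf_mul
  have hge : H.qOf * 2 ≤ Nat.card (KOf a ω) := hk ▸ Nat.mul_le_mul_left _ hker
  have hkeq : Nat.card (KOf a ω) = Nat.card Ω - 2 := by omega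
  have hprime : (Nat.card Ω - 1).Prime :=
    (Nat.totient_eq_iff_prime (by omega)).1 (by omega)
  refine ⟨hprime, hkeq, ?_, ?_⟩
  · refine Subgroup.eq_top_of_card_eq _ (le_antisymm ?_ ?_)
    · exact Subgroup.card_le_card_group _
    let j : H.phi.range ⊕ H.phi.range → H.psi.ker := Sum.elim
      (fun z => ⟨z.1, H.phi_range_le z.2⟩) (fun z => ⟨y₁ * z.1, mul_mem hy₁ (H.phi_range_le z.2)⟩)
    have hj : Function.Injective j := by
      have hout : ∀ z z' : H.phi.range, (z : KOf a ω) ≠ y₁ * z' := fun z z' e =>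
        hy₁n (by
          have := mul_mem z.2 (inv_mem z'.2)
          rwa [e, mul_inv_cancel_right] at this)
      rintro (z | z) (z' | z') h <;> have h' := congrArg Subtype.val h <;>
        simp only [j, Sum.elim_inl, Sum.elim_inr] at h'
      · rw [Subtype.ext h']
      · exact absurd h' (hout z z')
      · exact absurd h'.symm (hout z' z)
      · rw [Subtype.ext (mul_left_cancel h')]
    have := Nat.card_le_card_of_injective j hj
    rw [Nat.card_sum] at this
    have hq : H.qOf = Nat.card H.phi.range := rfl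
    omega
  · intro z hz x hxω hxη hzx
    obtain ⟨f, hf⟩ := hf2s ⟨x, hxω⟩
    have hfx : (f : G) • tOf a Ω • ω = x := congrArg Subtype.val hf
    have hfz : z * f * z⁻¹ = f := hFinj _ (hFconj z (mem_KOf.1 hz).1 f f.2) _ f.2 _ hne (by
      rw [mul_smul, mul_smul, inv_smul_eq_iff.2 (mem_KOf.1 hz).2.symm, hfx, hzx])
    refine hcentral z hz fun f' hf' => ?_
    have hf1' : f ≠ 1 := fun e => hxη (by rw [← hfx, e, OneMemClass.coe_one, one_smul])
    haveI : Fact (Nat.Prime (Nat.card F)) := ⟨hFcard.symm ▸ hprime⟩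
    obtain ⟨i, hi⟩ := mem_zpowers_iff.1
      (mem_zpowers_of_prime_card (g := f) (g' := (⟨f', hf'⟩ : F)) rfl hf1')
    have hi' : (f : G) ^ i = f' := congrArg Subtype.val hi
    rw [← hi']
    exact ((Commute.zpow_right (mul_inv_eq_iff_eq_mul.1 hfz) i : Commute z _)).eq

end Hyp

end CfsgLib.CyclicZ
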