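import Cfsg.Agent.Perm.CyclicZ.Sharp
import Cfsg.Agent.Comp.Basic
import Cfsg.Agent.S3559
import Cfsg.Agent.SchurRing.BGroup

/-!
# Nonsolvable products of a cyclic group and a Z-group

With trivial solvable radical such a group is `PGL(2, p)`, `p > 3`.
-/

set_option autoImplicit false
set_option linter.unusedSectionVars false
set_option linter.style.haveILetI false

namespace CfsgLib.CyclicZ

open MulAction Subgroup
open scoped Pointwise
open CfsgLib.Comp (solvRad)

universe u

variable {G : Type u} [Group G] [Finite G]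

/-- A Sylow subgroup of a product is a product of `p`-subgroups of the factors, up to conjugation. -/
theorem exists_sylow_prod {p : ℕ} [hp : Fact p.Prime] (A B : Subgroup G) [hA : IsCyclic A]
    [hB : IsZGroup B] (hAB : ∀ g : G, ∃ a ∈ A, ∃ b ∈ B, g = a * b) :
    ∃ P : Sylow p G, ∃ X Y : Subgroup G, IsCyclic X ∧ IsCyclic Y ∧ X ≤ P ∧ Y ≤ P ∧
      ∀ g ∈ P, ∃ x ∈ X, ∃ y ∈ Y, g = x * y := by
  classical
  obtain ⟨PA⟩ : Nonempty (Sylow p A) := inferInstance
  obtain ⟨PB⟩ : Nonempty (Sylow p B) := inferInstance
  set X : Subgroup G := (PA : Subgroup A).map A.subtype with hX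
  set Y0 : Subgroup G := (PB : Subgroup B).map B.subtype with hY0
  obtain ⟨P, hXP⟩ := (PA.2.map A.subtype).exists_le_sylow
  obtain ⟨Q, hYQ⟩ := (PB.2.map B.subtype).exists_le_sylow
  obtain ⟨g, hg⟩ := exists_smul_eq G Q P
  set c : G →* G := (MulAut.conj g).toMonoidHom with hc
  have hcinj : Function.Injective c := (MulAut.conj g).injective
  set Y : Subgroup G := Y0.map c with hY
  set B' : Subgroup G := B.map c with hB'
  have hYP : Y ≤ P := by
    rintro _ ⟨y, hy, rfl⟩
    rw [← hg]
    show c y ∈ ((g • Q : Sylow p G) : Subgroup G)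
    rw [Sylow.coe_subgroup_smul]
    exact Subgroup.smul_mem_pointwise_smul y (MulAut.conj g) _ (hYQ hy)
  have hYB : Y ≤ B' := Subgroup.map_mono (by rw [hY0]; exact Subgroup.map_subtype_le _)
  have hXA : X ≤ A := by rw [hX]; exact Subgroup.map_subtype_le _
  refine ⟨P, X, Y, ?_, ?_, hXP, hYP, ?_⟩
  · exact isCyclic_of_surjective _ (((PA : Subgroup A).equivMapOfInjective A.subtype
      A.subtype_injective).surjective)
  · haveI : IsCyclic Y0 := isCyclic_of_surjective _ (((PB : Subgroup B).equivMapOfInjective B.subtype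
      B.subtype_injective).surjective)
    exact isCyclic_of_surjective _ ((Y0.equivMapOfInjective c hcinj).surjective)
  -- the conjugate factor is still a supplement
  have hAB' : ∀ z : G, ∃ a ∈ A, ∃ b ∈ B', z = a * b := by
    obtain ⟨a₁, ha₁, b₁, hb₁, hg1⟩ := hAB g
    intro z
    obtain ⟨a₂, ha₂, b₂, hb₂, hz⟩ := hAB (z * a₁)
    refine ⟨a₂ * a₁⁻¹, mul_mem ha₂ (inv_mem ha₁), a₁ * b₂ * a₁⁻¹,
      ⟨b₁⁻¹ * b₂ * b₁, mul_mem (mul_mem (inv_mem hb₁) hb₂) hb₁, ?_⟩, ?_⟩
    · show g * (b₁⁻¹ * b₂ * b₁) * g⁻¹ = _
      rw [hg1]; group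
    · rw [eq_mul_inv_of_mul_eq hz]; group
  have hidx : B'.relIndex A = B'.index := by
    rw [Subgroup.relIndex, Subgroup.index_eq_card, Subgroup.index_eq_card]
    let F : A ⧸ B'.subgroupOf A → G ⧸ B' := Quotient.map' (fun a : A => (a : G)) fun a b h => by
      rw [QuotientGroup.leftRel_apply] at h ⊢; exact h
    refine Nat.card_eq_of_bijective F ⟨?_, ?_⟩
    · intro x y
      refine Quotient.inductionOn₂' x y fun a b h => ?_
      exact QuotientGroup.eq.2 ((QuotientGroup.eq (s := B')).1 h)
    · intro x
      obtain ⟨z, rfl⟩ := QuotientGroup.mk_surjective x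
      obtain ⟨a, ha, b, hb, rfl⟩ := hAB' z
      exact ⟨QuotientGroup.mk (⟨a, ha⟩ : A),
        (QuotientGroup.eq (s := B')).2 (by simpa [← mul_assoc] using hb)⟩
  -- cardinalities
  have hcA : Nat.card X = p ^ (Nat.card A).factorization p := by
    rw [hX, Subgroup.card_map_of_injective A.subtype_injective]; exact PA.card_eq_multiplicity
  have hcY : Nat.card Y = p ^ (Nat.card B).factorization p := by
    rw [hY, Subgroup.card_map_of_injective hcinj, hY0,
      Subgroup.card_map_of_injective B.subtype_injective]
    exact PB.card_eq_multiplicity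
  have hcB : Nat.card B' = Nat.card B := Subgroup.card_map_of_injective hcinj
  have hprod : Nat.card G * Nat.card (B'.subgroupOf A) = Nat.card A * Nat.card B := by
    rw [← Subgroup.card_mul_index B', ← hidx, hcB, ← Subgroup.card_mul_index (B'.subgroupOf A),
      Subgroup.relIndex]
    ring
  have hfac := congrArg (fun k : ℕ => k.factorization p) hprod
  simp only [Nat.factorization_mul Nat.card_pos.ne' Nat.card_pos.ne', Finsupp.add_apply] at hfac
  obtain ⟨i, hi⟩ := (IsPGroup.to_le P.2 (inf_le_left.trans hXP : X ⊓ Y ≤ (P : Subgroup G))).exists_card_eq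
  have hi' : i ≤ (Nat.card (B'.subgroupOf A)).factorization p := by
    rw [← hp.out.pow_dvd_iff_le_factorization Nat.card_pos.ne', ← hi]
    have e : Nat.card (B'.subgroupOf A) = Nat.card ↥(A ⊓ B') :=
      Nat.card_congr
        { toFun := fun z => ⟨z.1.1, z.1.2, z.2⟩
          invFun := fun z => ⟨⟨z.1, z.2.1⟩, z.2.2⟩
          left_inv := fun _ => rfl
          right_inv := fun _ => rfl }
    rw [e]
    exact Subgroup.card_dvd_of_le (inf_le_inf hXA hYB)
  -- every coset of `Y` in `P` meets `X`
  intro z hz
  let F : X × Y → (P : Subgroup G) :=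
    fun w => ⟨w.1 * w.2, mul_mem (hXP w.1.2) (hYP w.2.2)⟩
  suffices hF : Function.Surjective F by
    obtain ⟨⟨x, y⟩, hxy⟩ := hF ⟨z, hz⟩
    exact ⟨x, x.2, y, y.2, (congrArg Subtype.val hxy).symm⟩
  let π : X → (P : Subgroup G) ⧸ Y.subgroupOf P := fun x => QuotientGroup.mk ⟨x, hXP x.2⟩
  suffices hπ : Function.Surjective π by
    intro w
    obtain ⟨x, hx⟩ := hπ (QuotientGroup.mk w)
    have hy : ((x : G))⁻¹ * w ∈ Y := (QuotientGroup.eq (s := Y.subgroupOf (P : Subgroup G))).1 hx
    exact ⟨⟨x, ⟨_, hy⟩⟩, Subtype.ext (mul_inv_cancel_left _ _)⟩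
  let π' : X ⧸ Y.subgroupOf X → (P : Subgroup G) ⧸ Y.subgroupOf P :=
    Quotient.map' (fun x : X => (⟨x, hXP x.2⟩ : (P : Subgroup G))) fun a b h => by
      rw [QuotientGroup.leftRel_apply] at h ⊢; exact h
  have hπ' : Function.Injective π' := fun x y => Quotient.inductionOn₂' x y fun a b h =>
    QuotientGroup.eq.2 ((QuotientGroup.eq (s := Y.subgroupOf (P : Subgroup G))).1 h)
  have hle : Nat.card ((P : Subgroup G) ⧸ Y.subgroupOf P) ≤ Nat.card (X ⧸ Y.subgroupOf X) := by
    have h1 := Subgroup.card_mul_index (Y.subgroupOf P)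
    have h2 := Subgroup.card_mul_index (Y.subgroupOf X)
    have hYc : Nat.card (Y.subgroupOf (P : Subgroup G)) = Nat.card Y :=
      Nat.card_congr (Subgroup.subgroupOfEquivOfLe hYP).toEquiv
    have hXY : Nat.card (Y.subgroupOf X) = Nat.card ↥(X ⊓ Y) :=
      Nat.card_congr
        { toFun := fun z => ⟨z.1.1, z.1.2, z.2⟩
          invFun := fun z => ⟨⟨z.1, z.2.1⟩, z.2.2⟩
          left_inv := fun _ => rfl
          right_inv := fun _ => rfl }
    have hPc : Nat.card (P : Subgroup G) = p ^ (Nat.card G).factorization p := P.card_eq_multiplicity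
    rw [← Subgroup.index_eq_card, ← Subgroup.index_eq_card]
    have hYpos : 0 < Nat.card Y := Nat.card_pos
    refine Nat.le_of_mul_le_mul_left (c := Nat.card Y * Nat.card ↥(X ⊓ Y)) ?_
      (Nat.mul_pos hYpos Nat.card_pos)
    calc Nat.card Y * Nat.card ↥(X ⊓ Y) * (Y.subgroupOf (P : Subgroup G)).index
        = Nat.card ↥(X ⊓ Y) * (Nat.card Y * (Y.subgroupOf (P : Subgroup G)).index) := by ring
      _ = Nat.card ↥(X ⊓ Y) * Nat.card (P : Subgroup G) := by rw [← h1, hYc]
      _ ≤ Nat.card X * Nat.card Y := by
          rw [hi, hPc, hcA, hcY, ← pow_add, ← pow_add]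
          exact Nat.pow_le_pow_right hp.out.pos (by omega)
      _ = _ := by rw [← h2, hXY]; ring
  have hbij : Function.Bijective π' :=
    (Nat.bijective_iff_injective_and_card π').2
      ⟨hπ', le_antisymm (Nat.card_le_card_of_injective π' hπ') hle⟩
  intro w
  obtain ⟨x, hx⟩ := hbij.2 w
  obtain ⟨x, rfl⟩ := QuotientGroup.mk_surjective x
  exact ⟨x, hx⟩

/-- A noncyclic `p`-group for `p = 2` maps onto a group of order four and exponent two. -/
theorem exists_hom_four {D : Type u} [Group D] [Finite D] (hD : IsPGroup 2 D) (hnc : ¬ IsCyclic D) :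
    ∃ (E : Type u) (_ : Group E) (f : D →* E), Function.Surjective f ∧ Nat.card E = 4 ∧
      ∀ e : E, e * e = 1 := by
  haveI := Fact.mk Nat.prime_two
  haveI := hD.isNilpotent
  have hmax : ∀ M : Subgroup D, IsCoatom M → M.Normal := fun M hM =>
    NormalizerCondition.normal_of_coatom M Group.normalizerCondition_of_isNilpotent hM
  have hidx : ∀ M : Subgroup D, IsCoatom M → M.index = 2 := by
    intro M hM
    obtain ⟨n, hn⟩ := hD.exists_card_eq
    obtain ⟨k, hk⟩ := (IsPGroup.to_subgroup hD M).exists_card_eq
    have hkn : k < n := by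
      have h : Nat.card M < Nat.card D := by
        rw [← Subgroup.card_top (G := D)]
        exact lt_of_le_of_ne (Subgroup.card_le_of_le le_top)
          fun e => hM.1 (Subgroup.eq_of_le_of_card_ge le_top e.ge)
      rw [hn, hk] at h
      exact (Nat.pow_lt_pow_iff_right (by norm_num)).1 h
    obtain ⟨M', hM'c, hM'⟩ := Sylow.exists_subgroup_card_pow_succ (p := 2) (H := M)
      (hn ▸ pow_dvd_pow 2 (hkn : k + 1 ≤ n)) hk
    have hne : M < M' := lt_of_le_of_ne hM' fun e => by
      rw [e, hM'c] at hk
      exact absurd (Nat.pow_right_injective le_rfl hk) (by omega)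
    have htop := hM.2 M' hne
    have h := Subgroup.card_mul_index M
    rw [htop, Subgroup.card_top] at hM'c
    rw [hk, hM'c, pow_succ] at h
    exact Nat.eq_of_mul_eq_mul_left (by positivity) h
  haveI : Nontrivial D := by
    by_contra h
    haveI := not_nontrivial_iff_subsingleton.1 h
    exact hnc inferInstance
  obtain ⟨M₁, hM₁, -⟩ := (IsCoatomic.eq_top_or_exists_le_coatom (⊥ : Subgroup D)).resolve_left bot_ne_top
  obtain ⟨M₂, hM₂, hne⟩ : ∃ M₂ : Subgroup D, IsCoatom M₂ ∧ M₂ ≠ M₁ := by
    by_contra! h
    apply hnc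
    obtain ⟨x, -, hx⟩ := SetLike.exists_of_lt (lt_top_iff_ne_top.2 hM₁.1)
    refine ⟨⟨x, fun y => ?_⟩⟩
    rcases IsCoatomic.eq_top_or_exists_le_coatom (zpowers x) with e | ⟨M, hM, hle⟩
    · exact Subgroup.mem_zpowers_iff.1 (by rw [e]; exact Subgroup.mem_top y)
    · exact absurd (h M hM ▸ hle (mem_zpowers x)) hx
  haveI := hmax M₁ hM₁
  haveI := hmax M₂ hM₂
  refine ⟨(D ⧸ M₁) × (D ⧸ M₂), inferInstance,
    (QuotientGroup.mk' M₁).prod (QuotientGroup.mk' M₂), ?_, ?_, ?_⟩
  · rintro ⟨u, v⟩
    obtain ⟨u, rfl⟩ := QuotientGroup.mk_surjective u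
    obtain ⟨v, rfl⟩ := QuotientGroup.mk_surjective v
    -- `M₁ M₂ = D`
    have htop : M₁ ⊔ M₂ = ⊤ := hM₁.2 _ (lt_of_le_not_ge le_sup_left fun h =>
      hne (eq_of_le_of_not_lt (le_sup_right.trans h) fun hlt => hM₁.1 (hM₂.2 _ hlt)))
    obtain ⟨m₁, hm₁, m₂, hm₂, hm⟩ :=
      (Subgroup.mem_sup_of_normal_right.1 (htop.symm ▸ Subgroup.mem_top (u⁻¹ * v)) :
        ∃ y ∈ M₁, ∃ z ∈ M₂, y * z = u⁻¹ * v)
    refine ⟨u * m₁, Prod.ext ?_ ?_⟩
    · exact QuotientGroup.eq.2 (by simpa using hm₁)
    · refine QuotientGroup.eq.2 ?_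
      rw [mul_inv_rev, mul_assoc, ← hm, inv_mul_cancel_left]
      exact hm₂
  · rw [Nat.card_prod, ← Subgroup.index_eq_card, ← Subgroup.index_eq_card, hidx M₁ hM₁, hidx M₂ hM₂]
  · rintro ⟨u, v⟩
    refine Prod.ext ?_ ?_
    · have := pow_card_eq_one' (x := u)
      rw [← Subgroup.index_eq_card, hidx M₁ hM₁, sq] at this
      exact this
    · have := pow_card_eq_one' (x := v)
      rw [← Subgroup.index_eq_card, hidx M₂ hM₂, sq] at this
      exact this

/-- The trivial solvable radical passes to a normal subgroup. -/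
theorem solvRad_eq_bot_of_normal (hR : solvRad G = ⊥) (C : Subgroup G) [C.Normal] :
    solvRad C = ⊥ := by
  have hs : Group.IsSolvable ((solvRad C).map C.subtype) :=
    CfsgLib.Comp.isSolvable_map_subtype CfsgLib.Comp.solvRad_isSolvable
  have h := CfsgLib.Comp.le_solvRad
    (inferInstance : ((solvRad C).map C.subtype).Normal) hs
  rw [hR, le_bot_iff, Subgroup.map_eq_bot_iff_of_injective _ C.subtype_injective] at h
  exact h

/-- A point stabiliser of a faithful transitive action of prime degree `n` has order prime to `n`. -/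
theorem not_dvd_card_stabilizer {Ω : Type u} [MulAction G Ω] [FaithfulSMul G Ω] [Finite Ω]
    (hn : (Nat.card Ω).Prime) (ω : Ω) : ¬ Nat.card Ω ∣ Nat.card (stabilizer G ω) := by
  classical
  haveI := Fintype.ofFinite Ω
  intro h
  have h1 : Nat.card (stabilizer G ω) ∣ Nat.card (stabilizer (Equiv.Perm Ω) ω) := by
    refine Subgroup.card_dvd_of_injective
      (((MulAction.toPermHom G Ω).comp (stabilizer G ω).subtype).codRestrict _ fun z => z.2) ?_
    intro x y e
    exact Subtype.ext (MulAction.toPerm_injective (congrArg Subtype.val e))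
  have h2 := Subgroup.card_mul_index (stabilizer (Equiv.Perm Ω) ω)
  rw [index_stabilizer_of_transitive, Nat.card_perm] at h2
  have h3 : Nat.card (stabilizer (Equiv.Perm Ω) ω) = (Nat.card Ω - 1).factorial := by
    refine Nat.eq_of_mul_eq_mul_right hn.pos (h2.trans ?_)
    rw [mul_comm, Nat.mul_factorial_pred hn.ne_zero]
  rw [h3] at h1
  have := (hn.dvd_factorial).1 (h.trans h1)
  have := hn.pos
  omega

/-- The main statement: trivial radical. -/
theorem good_of_factor : ∀ (m : ℕ) {G : Type u} [Group G] [Finite G], Nat.card G ≤ m →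
    ¬ Group.IsSolvable G → solvRad G = ⊥ → ∀ A B : Subgroup G, IsCyclic A → IsZGroup B →
    (∀ g : G, ∃ a ∈ A, ∃ b ∈ B, g = a * b) → ∃ p, Good G p := by
  intro m
  induction m with
  | zero =>
    intro G _ _ hle _ _ _ _ _ _ _
    have := (Nat.card_pos : 0 < Nat.card G)
    omega
  | succ m IH =>
    intro G _ _ hle hG hR A B hA hB hAB
    classical
    haveI := hA
    haveI := hB
    have hBtop : B ≠ ⊤ := fun e => hG <| by
      haveI : Group.IsSolvable B := inferInstance
      exact Group.isSolvable_of_surjective (f := B.subtype)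
        fun x => ⟨⟨x, e ▸ Subgroup.mem_top x⟩, rfl⟩
    obtain ⟨M, hM, hBM⟩ := (IsCoatomic.eq_top_or_exists_le_coatom B).resolve_left hBtop
    set C := M.normalCore with hCdef
    have hAM : A ⊓ M ≤ C := by
      intro x hx g
      obtain ⟨a, ha, b, hb, hg⟩ := hAB g⁻¹
      have hg' : g = b⁻¹ * a⁻¹ := by rw [← mul_inv_rev, ← hg, inv_inv]
      haveI : IsCyclic A := hA
      have hax : a⁻¹ * x * a = x := by
        have h : x * a = a * x :=
          congrArg Subtype.val (hA.isMulCommutative.is_comm.comm (⟨x, hx.1⟩ : A) ⟨a, ha⟩)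
        rw [mul_assoc, h, inv_mul_cancel_left]
      have e : g * x * g⁻¹ = b⁻¹ * x * b := by
        rw [hg']
        calc b⁻¹ * a⁻¹ * x * (b⁻¹ * a⁻¹)⁻¹ = b⁻¹ * (a⁻¹ * x * a) * b := by group
          _ = _ := by rw [hax]
      show g * x * g⁻¹ ∈ M
      rw [e]
      exact mul_mem (mul_mem (inv_mem (hBM hb)) hx.2) (hBM hb)
    have hCM : C ≤ M := M.normalCore_le
    by_cases hC : C = ⊥
    · -- primitive on the cosets of `B`
      have hdisj : ∀ x ∈ A, x ∈ M → x = 1 := fun x h1 h2 => by
        have := hAM ⟨h1, h2⟩
        rwa [hC, Subgroup.mem_bot] at this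
      have hMB : M = B := by
        refine le_antisymm (fun x hx => ?_) hBM
        obtain ⟨a, ha, b, hb, rfl⟩ := hAB x
        have : a = 1 := hdisj a ha (by
          have := mul_mem hx (inv_mem (hBM hb))
          rwa [mul_inv_cancel_right] at this)
        rwa [this, one_mul]
      subst hMB
      haveI : FaithfulSMul G (G ⧸ M) := ⟨fun {g k} h => by
        have hk : g⁻¹ * k ∈ (MulAction.toPermHom G (G ⧸ M)).ker :=
          Equiv.ext fun x => by
            show (g⁻¹ * k) • x = x
            rw [mul_smul, inv_smul_eq_iff, h x]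
        rw [← Subgroup.normalCore_eq_ker, ← hCdef, hC, Subgroup.mem_bot, inv_mul_eq_one] at hk
        exact hk⟩
      set ω : G ⧸ M := ((1 : G) : G ⧸ M) with hω
      have hsmul : ∀ x : G, x • ω = (x : G ⧸ M) := fun x => by
        rw [hω, MulAction.Quotient.smul_coe, smul_eq_mul, mul_one]
      have hstab : stabilizer G ω = M := by rw [hω, MulAction.stabilizer_quotient]
      have hbijA : Function.Bijective fun x : A => x • ω := by
        refine ⟨fun x y h => ?_, fun z => ?_⟩
        · have h' : (x : G) • ω = (y : G) • ω := h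
          rw [hsmul, hsmul, QuotientGroup.eq] at h'
          exact Subtype.ext (inv_mul_eq_one.1 (hdisj _ (mul_mem (inv_mem x.2) y.2) h'))
        · obtain ⟨z, rfl⟩ := QuotientGroup.mk_surjective z
          obtain ⟨a, ha, b, hb, rfl⟩ := hAB z
          refine ⟨⟨a, ha⟩, ?_⟩
          show a • ω = _
          rw [hsmul, QuotientGroup.eq, inv_mul_cancel_left]
          exact hb
      obtain ⟨⟨a, ha⟩, hgen⟩ := IsCyclic.exists_generator (α := A)
      have hAeq : zpowers a = A := by
        refine le_antisymm (Subgroup.zpowers_le.2 ha) fun x hx => ?_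
        obtain ⟨i, hi⟩ := mem_zpowers_iff.1 (hgen ⟨x, hx⟩)
        exact mem_zpowers_iff.2 ⟨i, congrArg Subtype.val hi⟩
      subst hAeq
      set n := Nat.card (G ⧸ M) with hn
      have hn1 : 1 < n := by
        rw [hn, ← Subgroup.index_eq_card]
        exact Subgroup.one_lt_index_of_ne_top hM.1
      haveI : Nontrivial (G ⧸ M) := Finite.one_lt_card_iff_nontrivial.1 hn1
      have hcoat : IsCoatom (stabilizer G ω) := by rw [hstab]; exact hM
      haveI hprim : IsPreprimitive G (G ⧸ M) := (isCoatom_stabilizer_iff_preprimitive G ω).1 hcoat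
      have hGcard : Nat.card G = Nat.card M * n := by
        rw [hn, ← Subgroup.index_eq_card, Subgroup.card_mul_index]
      have horda : orderOf a = n := by
        rw [← Nat.card_zpowers]
        exact Nat.card_eq_of_bijective _ hbijA
      by_cases hnp : n.Prime
      · -- then `G` is a Z-group
        exfalso
        refine hG ?_
        haveI : IsZGroup G := ⟨fun q hq P => by
          haveI := Fact.mk hq
          have hndvd : ¬ n ∣ Nat.card M := by
            have := not_dvd_card_stabilizer (G := G) hnp ω
            rwa [hstab] at this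
          rcases eq_or_ne q n with hqn | hqn
          · have hP : Nat.card P = n := by
              rw [P.card_eq_multiplicity, hGcard, hqn,
                Nat.factorization_mul Nat.card_pos.ne' (by omega), Finsupp.add_apply,
                Nat.factorization_eq_zero_of_not_dvd hndvd, hnp.factorization_self, zero_add,
                pow_one]
            haveI := Fact.mk hnp
            exact isCyclic_of_prime_card hP
          · obtain ⟨PB⟩ : Nonempty (Sylow q M) := inferInstance
            obtain ⟨Q, hQ⟩ := (PB.2.map M.subtype).exists_le_sylow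
            have hc : Nat.card ((PB : Subgroup M).map M.subtype) = Nat.card Q := by
              rw [Subgroup.card_map_of_injective M.subtype_injective, Q.card_eq_multiplicity,
                hGcard, Nat.factorization_mul Nat.card_pos.ne' (by omega), Finsupp.add_apply,
                Nat.factorization_eq_zero_of_not_dvd (n := n)
                  (fun h => hqn ((Nat.prime_dvd_prime_iff_eq hq hnp).1 h)), add_zero]
              exact PB.card_eq_multiplicity
            have hQeq : (PB : Subgroup M).map M.subtype = Q :=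
              Subgroup.eq_of_le_of_card_ge hQ hc.ge
            haveI : IsCyclic Q := by
              show IsCyclic (Q : Subgroup G)
              rw [← hQeq]
              exact isCyclic_of_surjective _ (((PB : Subgroup M).equivMapOfInjective M.subtype
                M.subtype_injective).surjective)
            exact isCyclic_of_surjective _ (Sylow.equiv Q P).surjective⟩
        infer_instance
      -- doubly transitive
      haveI htwo : IsMultiplyPretransitive G (G ⧸ M) 2 := by
        by_cases hpp : IsPrimePow n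
        · obtain ⟨p, k, hp, hk, hpk⟩ := (isPrimePow_nat_iff n).1 hpp
          haveI := Fact.mk hp
          have hk2 : 2 ≤ k := by
            by_contra h
            obtain rfl : k = 1 := by omega
            exact hnp (by rw [← hpk, pow_one]; exact hp)
          exact CfsgLib.SchurRing.two_transitive_of_prime_power hk2 (horda.trans hpk.symm) hbijA hcoat
        · refine (Cfsg.Agent.S3559.result (inferInstance : IsPretransitive G (G ⧸ M)) hn1 hpp
            (zpowers a) inferInstance ⟨⟨fun x y => ?_⟩, fun x => ?_⟩).resolve_left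
              fun h => h hprim
          · obtain ⟨u, rfl⟩ := hbijA.2 x
            obtain ⟨v, rfl⟩ := hbijA.2 y
            exact ⟨v * u⁻¹, by show (v * u⁻¹) • u • ω = v • ω; rw [mul_smul, inv_smul_smul]⟩
          · obtain ⟨u, rfl⟩ := hbijA.2 x
            refine (Subgroup.eq_bot_iff_forall _).2 fun z hz => ?_
            have hz' : z • u • ω = u • ω := hz
            rw [← mul_smul, (inferInstance : IsCyclic (zpowers a)).isMulCommutative.is_comm.comm z u,
              mul_smul] at hz'
            have h1 := MulAction.injective u hz'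
            exact hbijA.1 (h1.trans (one_smul _ ω).symm)
      rcases Nat.even_or_odd n with heven | hodd
      · have hbig : 2 < n := by
          rcases Nat.lt_or_ge 2 n with h | h
          · exact h
          · have hn2 : n = 2 := by omega
            exact absurd (hn2 ▸ Nat.prime_two) hnp
        have H : Hyp a ω := ⟨inferInstance, htwo, hbijA, by rw [hstab]; exact hB, heven, hbig⟩
        exact H.good hG
      -- odd degree
      exfalso
      haveI := Fact.mk Nat.prime_two
      have h2G : 2 ∣ Nat.card G := by
        have h3 : 3 ≤ n := by obtain ⟨k, hk⟩ := hodd; omega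
        obtain ⟨η, hη⟩ := exists_ne ω
        have horb : MulAction.orbit M η = {ω}ᶜ := by
          ext x
          constructor
          · rintro ⟨g, rfl⟩ h
            refine hη (MulAction.injective (g : G) ((show (g : G) • η = ω from h).trans ?_))
            exact ((mem_stabilizer_iff).1 (hstab.symm ▸ g.2 : (g : G) ∈ stabilizer G ω)).symm
          · intro hx
            obtain ⟨g, hg1, hg2⟩ := (is_two_pretransitive_iff.1 htwo) hη.symm
              (Ne.symm (hx : x ≠ ω))
            exact ⟨⟨g, hstab ▸ hg1⟩, hg2⟩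
        have h1 := Subgroup.card_mul_index (stabilizer M η)
        rw [MulAction.index_stabilizer, horb, Set.ncard_compl, Set.ncard_singleton] at h1
        rw [hGcard, ← h1]
        obtain ⟨k, hk⟩ := hodd
        exact Dvd.dvd.mul_right (Dvd.dvd.mul_left ⟨k, by omega⟩ _) _
      have hmin : (Nat.card G).minFac = 2 := (Nat.minFac_eq_two_iff _).2 h2G
      obtain ⟨PB⟩ : Nonempty (Sylow 2 M) := inferInstance
      obtain ⟨P, hP⟩ := (PB.2.map M.subtype).exists_le_sylow
      have hPeq : (PB : Subgroup M).map M.subtype = P := by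
        refine Subgroup.eq_of_le_of_card_ge hP (le_of_eq ?_)
        rw [Subgroup.card_map_of_injective M.subtype_injective, P.card_eq_multiplicity, hGcard,
          Nat.factorization_mul Nat.card_pos.ne' (by omega), Finsupp.add_apply,
          Nat.factorization_eq_zero_of_not_dvd (n := n)
            (fun h => (Nat.not_even_iff_odd.2 hodd) (even_iff_two_dvd.2 h)), add_zero]
        exact PB.card_eq_multiplicity.symm
      have hPcyc : IsCyclic P := by
        show IsCyclic (P : Subgroup G)
        rw [← hPeq]
        exact isCyclic_of_surjective _ (((PB : Subgroup M).equivMapOfInjective M.subtype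
          M.subtype_injective).surjective)
      set φ := MonoidHom.transferSylow P (hPcyc.normalizer_le_centralizer hmin)
      have hcompl := hPcyc.isComplement' hmin
      have hodd' : ¬ 2 ∣ Nat.card φ.ker := by
        rw [← hcompl.index_eq_card]
        exact P.not_dvd_index
      set O := φ.ker
      by_cases hOs : Group.IsSolvable O
      · have hO : O ≤ solvRad G := CfsgLib.Comp.le_solvRad inferInstance hOs
        rw [hR, le_bot_iff] at hO
        refine hG ?_
        haveI := P.2.isNilpotent
        exact Group.isSolvable_of_isSolvable_injective (f := φ) ((MonoidHom.ker_eq_bot_iff φ).1 hO)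
      · have haO : a ∈ O := by
          rw [MonoidHom.mem_ker, ← orderOf_eq_one_iff]
          refine Nat.eq_one_of_dvd_coprimes (a := n) (b := Nat.card P) ?_
            (horda ▸ orderOf_map_dvd φ a) (orderOf_dvd_natCard _)
          obtain ⟨k, hk⟩ := P.2.exists_card_eq
          rw [hk]
          exact Nat.Coprime.pow_right _ (Nat.coprime_two_right.2 hodd)
        haveI : IsCyclic ((zpowers a).subgroupOf O) :=
          isCyclic_of_surjective _ (Subgroup.subgroupOfEquivOfLe (Subgroup.zpowers_le.2 haO)).symm.surjective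
        haveI : IsZGroup (M.subgroupOf O) :=
          IsZGroup.of_injective (f := (O.subtype.comp (M.subgroupOf O).subtype).codRestrict M
            fun z => z.2) fun x y h => Subtype.ext (Subtype.ext (congrArg Subtype.val h :))
        have hOlt : Nat.card O < Nat.card G :=
          lt_of_le_of_ne (Subgroup.card_le_card_group _) fun e => hodd' (e ▸ h2G)
        obtain ⟨p, hp⟩ := IH (G := O) (by omega) hOs (solvRad_eq_bot_of_normal hR O)
          ((zpowers a).subgroupOf O) (M.subgroupOf O) inferInstance inferInstance fun z => by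
            obtain ⟨x, hx, b, hb, hz⟩ := hAB z.1
            have hxO : x ∈ O := Subgroup.zpowers_le.2 haO hx
            have hbO : b ∈ O := by
              have := mul_mem (inv_mem hxO) z.2
              rwa [hz, inv_mul_cancel_left] at this
            exact ⟨⟨x, hxO⟩, hx, ⟨b, hbO⟩, hb, Subtype.ext hz⟩
        apply hodd'
        rw [hp.card]
        exact Dvd.dvd.mul_left (even_iff_two_dvd.1
          (Nat.Prime.even_sub_one hp.prime (by have := hp.three_lt; omega))) _
    · -- a normal subgroup inside `M`
      haveI hCn : C.Normal := M.normalCore_normal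
      have hCns : ¬ Group.IsSolvable C := fun h => hC (by
        have := CfsgLib.Comp.le_solvRad hCn h
        rwa [hR, le_bot_iff] at this)
      have hClt : Nat.card C < Nat.card G := by
        rw [← Subgroup.card_top (G := G)]
        exact lt_of_le_of_ne (Subgroup.card_le_of_le le_top) fun e =>
          hM.1 (top_le_iff.1 ((Subgroup.eq_of_le_of_card_ge le_top e.ge).ge.trans hCM))
      haveI : IsCyclic (A.subgroupOf C) := by
        refine isCyclic_of_injective ((C.subtype.comp (A.subgroupOf C).subtype).codRestrict A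
          fun z => z.2) fun x y h => Subtype.ext (Subtype.ext (congrArg Subtype.val h :))
      haveI : IsZGroup (B.subgroupOf C) :=
        IsZGroup.of_injective (f := (C.subtype.comp (B.subgroupOf C).subtype).codRestrict B
          fun z => z.2) fun x y h => Subtype.ext (Subtype.ext (congrArg Subtype.val h :))
      obtain ⟨p, hp⟩ := IH (G := C) (by omega) hCns (solvRad_eq_bot_of_normal hR C)
        (A.subgroupOf C) (B.subgroupOf C) inferInstance inferInstance fun z => by
          obtain ⟨x, hx, b, hb, hz⟩ := hAB z.1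
          have hxC : x ∈ C := hAM ⟨hx, by
            have := mul_mem (hCM z.2) (inv_mem (hBM hb))
            rwa [hz, mul_inv_cancel_right] at this⟩
          have hbC : b ∈ C := by
            have := mul_mem (inv_mem hxC) z.2
            rwa [hz, inv_mul_cancel_left] at this
          exact ⟨⟨x, hxC⟩, hx, ⟨b, hbC⟩, hb, Subtype.ext hz⟩
      set N := Subgroup.centralizer (C : Set G) with hN
      haveI hNn : N.Normal := inferInstance
      have hCN : ∀ x ∈ C, x ∈ N → x = 1 := by
        intro x hx hxN
        have h : (⟨x, hx⟩ : C) = 1 := hp.faithful _ fun P => by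
          refine Sylow.smul_eq_iff_mem_normalizer.2 (Subgroup.mem_normalizer_iff.2 fun y => ?_)
          have e : (⟨x, hx⟩ : C) * y * (⟨x, hx⟩ : C)⁻¹ = y := Subtype.ext (by
            show x * (y : G) * x⁻¹ = y
            rw [← Subgroup.mem_centralizer_iff.1 hxN y y.2, mul_inv_cancel_right])
          rw [e]
        exact congrArg Subtype.val h
      have hdec : ∀ g : G, ∃ c ∈ C, c⁻¹ * g ∈ N := fun g => by
        obtain ⟨c, hc, h⟩ := hp.extend g
        exact ⟨c, hc, Subgroup.mem_centralizer_iff.2 fun z hz => (h z hz).symm⟩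
      choose π hπC hπN using hdec
      have hπu : ∀ g c, c ∈ C → c⁻¹ * g ∈ N → π g = c := fun g c hc hcg => by
        refine (inv_mul_eq_one.1 (hCN ((π g)⁻¹ * c) (mul_mem (inv_mem (hπC g)) hc) ?_))
        have := mul_mem (hπN g) (inv_mem hcg)
        rwa [mul_inv_rev, inv_inv, mul_assoc, mul_inv_cancel_left] at this
      have hcomm : ∀ c ∈ C, ∀ z ∈ N, c * z = z * c := fun c hc z hz =>
        Subgroup.mem_centralizer_iff.1 hz c hc
      let π1 : G →* C := MonoidHom.mk' (fun g => ⟨π g, hπC g⟩) fun g k => Subtype.ext (by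
        refine hπu _ _ (mul_mem (hπC g) (hπC k)) ?_
        show (π g * π k)⁻¹ * (g * k) ∈ N
        have e : (π g * π k)⁻¹ * (g * k) = (π g)⁻¹ * g * ((π k)⁻¹ * k) := by
          calc (π g * π k)⁻¹ * (g * k) = (π k)⁻¹ * ((π g)⁻¹ * g) * k := by group
            _ = (π g)⁻¹ * g * (π k)⁻¹ * k := by rw [hcomm _ (inv_mem (hπC k)) _ (hπN g)]
            _ = _ := by group
        rw [e]
        exact mul_mem (hπN g) (hπN k))
      let π2 : G →* N := MonoidHom.mk' (fun g => ⟨(π g)⁻¹ * g, hπN g⟩) fun g k => Subtype.ext (by
        show (π (g * k))⁻¹ * (g * k) = (π g)⁻¹ * g * ((π k)⁻¹ * k)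
        have e : π (g * k) = π g * π k := congrArg Subtype.val (map_mul π1 g k)
        calc (π (g * k))⁻¹ * (g * k) = (π k)⁻¹ * ((π g)⁻¹ * g) * k := by rw [e]; group
          _ = (π g)⁻¹ * g * (π k)⁻¹ * k := by rw [hcomm _ (inv_mem (hπC k)) _ (hπN g)]
          _ = _ := by group)
      have hπ1C : ∀ c : C, π1 c = c := fun c => Subtype.ext
        (hπu _ _ c.2 (by rw [inv_mul_cancel]; exact one_mem _))
      have hπ1N : ∀ z : N, π1 z = 1 := fun z => Subtype.ext
        (hπu _ _ (one_mem _) (by show (1 : G)⁻¹ * (z : G) ∈ N; rw [inv_one, one_mul]; exact z.2))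
      have hπ2N : ∀ z : N, π2 z = z := fun z => Subtype.ext (by
        show (π z)⁻¹ * (z : G) = z
        rw [show π z = 1 from congrArg Subtype.val (hπ1N z), inv_one, one_mul])
      have hπ2C : ∀ c : C, π2 c = 1 := fun c => Subtype.ext (by
        show (π c)⁻¹ * (c : G) = 1
        rw [show π c = c from congrArg Subtype.val (hπ1C c), inv_mul_cancel])
      have hNns : ¬ Group.IsSolvable N := fun h => by
        have hN1 : N ≤ solvRad G := CfsgLib.Comp.le_solvRad hNn h
        rw [hR, le_bot_iff] at hN1
        apply hM.1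
        refine top_le_iff.1 fun g _ => hCM ?_
        have := hπN g
        rw [hN1, Subgroup.mem_bot, inv_mul_eq_one] at this
        exact this ▸ hπC g
      have hNlt : Nat.card N < Nat.card G := by
        refine lt_of_le_of_ne (Subgroup.card_le_card_group _) fun e => hC ?_
        have hNtop : N = ⊤ := Subgroup.eq_top_of_card_eq _ e
        refine (Subgroup.eq_bot_iff_forall _).2 fun x hx => hCN x hx ?_
        rw [hNtop]; exact Subgroup.mem_top x
      haveI : IsCyclic (A.map π2) :=
        isCyclic_of_surjective (π2.subgroupMap A) (π2.subgroupMap_surjective A)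
      haveI : IsZGroup (B.map π2) :=
        IsZGroup.of_surjective (f := π2.subgroupMap B) (π2.subgroupMap_surjective B)
      obtain ⟨q, hq⟩ := IH (G := N) (by omega) hNns (solvRad_eq_bot_of_normal hR N)
        (A.map π2) (B.map π2) inferInstance inferInstance fun z => by
          obtain ⟨x, hx, b, hb, hz⟩ := hAB z.1
          exact ⟨π2 x, Subgroup.mem_map_of_mem _ hx, π2 b, Subgroup.mem_map_of_mem _ hb,
            by rw [← map_mul, ← hz, hπ2N]⟩
      -- the Sylow 2-subgroup is too big
      exfalso
      haveI := Fact.mk Nat.prime_two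
      obtain ⟨P, X, Y, hX, hY, hXP, hYP, hP⟩ := exists_sylow_prod (p := 2) A B hAB
      have hfour : ∀ {H : Type u} [Group H] [Finite H] {r : ℕ}, Good H r → ∀ D : Sylow 2 H,
          ¬ IsCyclic D := by
        intro H _ _ r hH D hD
        obtain ⟨s, t, hs2, ht2, hs1, ht1, hne, hst⟩ := hH.four
        haveI := Fintype.ofFinite H
        let V : Subgroup H :=
          { carrier := {x | x = 1 ∨ x = s ∨ x = t ∨ x = s * t}
            mul_mem' := by
              have e1 : t * (s * t) = s := by rw [← mul_assoc, hst, mul_assoc, ht2, mul_one]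
              have e2 : s * (s * t) = t := by rw [← mul_assoc, hs2, one_mul]
              have e3 : s * t * s = t := by rw [mul_assoc, hst, e2]
              have e4 : s * t * t = s := by rw [mul_assoc, ht2, mul_one]
              have e5 : s * t * (s * t) = 1 := by rw [← mul_assoc, e3, ht2]
              intro x y hx hy
              simp only [Set.mem_ofPred_eq] at hx hy ⊢
              rcases hx with rfl | rfl | rfl | rfl <;> rcases hy with rfl | rfl | rfl | rfl <;>
                simp [hst, hs2, ht2, e1, e2, e3, e4, e5]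
            one_mem' := Or.inl rfl
            inv_mem' := by
              intro x hx
              have : x * x = 1 := by
                rcases hx with rfl | rfl | rfl | rfl
                · exact one_mul 1
                · exact hs2
                · exact ht2
                · rw [← mul_assoc, mul_assoc s t s, hst, ← mul_assoc s s t, hs2, one_mul, ht2]
              rw [inv_eq_of_mul_eq_one_right this]
              exact hx }
        have hVsq : ∀ x : V, (x : H) * x = 1 := by
          rintro ⟨x, rfl | rfl | rfl | rfl⟩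
          · exact one_mul 1
          · exact hs2
          · exact ht2
          · show s * t * (s * t) = 1
            rw [← mul_assoc, mul_assoc s t s, hst, ← mul_assoc s s t, hs2, one_mul, ht2]
        have hVP : IsPGroup 2 V := fun x => ⟨1, Subtype.ext (by
          rw [pow_one, SubmonoidClass.coe_pow, sq]; exact hVsq x)⟩
        obtain ⟨D', hD'⟩ := hVP.exists_le_sylow
        haveI : IsCyclic D' := isCyclic_of_surjective _ (Sylow.equiv D D').surjective
        haveI := Fintype.ofFinite D'
        have h1 : (Finset.univ.filter fun z : D' => z ^ 2 = 1).card ≤ 2 :=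
          IsCyclic.card_pow_eq_one_le (by norm_num)
        have hsV : s ∈ V := Or.inr (Or.inl rfl)
        have htV : t ∈ V := Or.inr (Or.inr (Or.inl rfl))
        have h2 : ({1, ⟨s, hD' hsV⟩, ⟨t, hD' htV⟩} : Finset D') ⊆
            Finset.univ.filter fun z : D' => z ^ 2 = 1 := by
          intro z hz
          simp only [Finset.mem_insert, Finset.mem_singleton] at hz
          refine Finset.mem_filter.2 ⟨Finset.mem_univ _, ?_⟩
          rw [sq]
          rcases hz with rfl | rfl | rfl
          · exact one_mul 1
          · exact Subtype.ext hs2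
          · exact Subtype.ext ht2
        have h3 := Finset.card_le_card h2
        rw [Finset.card_eq_three.2 ⟨_, _, _, fun e => hs1 (congrArg Subtype.val e).symm,
          fun e => ht1 (congrArg Subtype.val e).symm, fun e => hne (congrArg Subtype.val e), rfl⟩] at h3
        omega
      let DC : Sylow 2 C := P.mapSurjective (f := π1) fun c => ⟨c, hπ1C c⟩
      let DN : Sylow 2 N := P.mapSurjective (f := π2) fun c => ⟨c, hπ2N c⟩
      obtain ⟨E₁, _, f₁, hf₁, hE₁, hE₁'⟩ := exists_hom_four DC.2 (hfour hp DC)
      obtain ⟨E₂, _, f₂, hf₂, hE₂, hE₂'⟩ := exists_hom_four DN.2 (hfour hq DN)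
      haveI : Finite E₁ := Nat.finite_of_card_ne_zero (by omega)
      haveI : Finite E₂ := Nat.finite_of_card_ne_zero (by omega)
      let Φ : (P : Subgroup G) →* E₁ × E₂ := MonoidHom.prod
        (f₁.comp ((π1.comp (P : Subgroup G).subtype).codRestrict DC fun z =>
          Subgroup.mem_map_of_mem _ z.2))
        (f₂.comp ((π2.comp (P : Subgroup G).subtype).codRestrict DN fun z =>
          Subgroup.mem_map_of_mem _ z.2))
      have hsurj : Function.Surjective Φ := by
        rintro ⟨e₁, e₂⟩
        obtain ⟨d₁, rfl⟩ := hf₁ e₁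
        obtain ⟨d₂, rfl⟩ := hf₂ e₂
        -- `P` contains the Sylow subgroups of both factors
        have hc : ∀ c : C, c ∈ (DC : Subgroup C) → (c : G) ∈ (P : Subgroup G) := by
          obtain ⟨R, hR'⟩ := (DC.2.map C.subtype).exists_le_sylow
          obtain ⟨g, hg⟩ := exists_smul_eq G R P
          have hle : (P : Subgroup G).subgroupOf C ≤ (DC : Subgroup C) := fun c hc =>
            ⟨(c : G), hc, hπ1C c⟩
          have hge : Nat.card (DC : Subgroup C) ≤ Nat.card ((P : Subgroup G).subgroupOf C) := by
            refine Nat.card_le_card_of_injective (fun d => ⟨⟨g * (d.1 : G) * g⁻¹,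
              hCn.conj_mem _ d.1.2 g⟩, ?_⟩) fun x y h => ?_
            · show g * (d.1 : G) * g⁻¹ ∈ (P : Subgroup G)
              rw [← hg, Sylow.coe_subgroup_smul]
              exact Subgroup.smul_mem_pointwise_smul _ (MulAut.conj g) _
                (hR' (Subgroup.mem_map_of_mem _ d.2))
            · exact Subtype.ext (Subtype.ext (mul_left_cancel (mul_right_cancel
                (congrArg (fun z : (P : Subgroup G).subgroupOf C => ((z : C) : G)) h))))
          intro c hc
          rw [← Subgroup.eq_of_le_of_card_ge hle hge] at hc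
          exact hc
        have hd : ∀ c : N, c ∈ (DN : Subgroup N) → (c : G) ∈ (P : Subgroup G) := by
          obtain ⟨R, hR'⟩ := (DN.2.map N.subtype).exists_le_sylow
          obtain ⟨g, hg⟩ := exists_smul_eq G R P
          have hle : (P : Subgroup G).subgroupOf N ≤ (DN : Subgroup N) := fun c hc =>
            ⟨(c : G), hc, hπ2N c⟩
          have hge : Nat.card (DN : Subgroup N) ≤ Nat.card ((P : Subgroup G).subgroupOf N) := by
            refine Nat.card_le_card_of_injective (fun d => ⟨⟨g * (d.1 : G) * g⁻¹,
              hNn.conj_mem _ d.1.2 g⟩, ?_⟩) fun x y h => ?_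
            · show g * (d.1 : G) * g⁻¹ ∈ (P : Subgroup G)
              rw [← hg, Sylow.coe_subgroup_smul]
              exact Subgroup.smul_mem_pointwise_smul _ (MulAut.conj g) _
                (hR' (Subgroup.mem_map_of_mem _ d.2))
            · exact Subtype.ext (Subtype.ext (mul_left_cancel (mul_right_cancel
                (congrArg (fun z : (P : Subgroup G).subgroupOf N => ((z : N) : G)) h))))
          intro c hc
          rw [← Subgroup.eq_of_le_of_card_ge hle hge] at hc
          exact hc
        refine ⟨⟨(d₁.1 : G) * (d₂.1 : G), mul_mem (hc _ d₁.2) (hd _ d₂.2)⟩, Prod.ext ?_ ?_⟩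
        · exact congrArg f₁ (Subtype.ext (by
            show π1 ((d₁.1 : G) * (d₂.1 : G)) = d₁.1
            rw [map_mul, hπ1C, hπ1N, mul_one]))
        · exact congrArg f₂ (Subtype.ext (by
            show π2 ((d₁.1 : G) * (d₂.1 : G)) = d₂.1
            rw [map_mul, hπ2C, hπ2N, one_mul]))
      have hsq : ∀ e : E₁ × E₂, e * e = 1 := fun e => Prod.ext (hE₁' e.1) (hE₂' e.2)
      obtain ⟨x₀, hx₀⟩ := IsCyclic.exists_generator (α := X)
      obtain ⟨y₀, hy₀⟩ := IsCyclic.exists_generator (α := Y)
      set u := Φ (Subgroup.inclusion hXP x₀)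
      set v := Φ (Subgroup.inclusion hYP y₀)
      have hpow : ∀ (e : E₁ × E₂) (i : ℤ), e ^ i = 1 ∨ e ^ i = e := fun e i => by
        rcases Int.even_or_odd i with ⟨k, hk⟩ | ⟨k, hk⟩
        · left; rw [hk, ← two_mul, zpow_mul, zpow_two, hsq, one_zpow]
        · right; rw [hk, zpow_add, zpow_mul, zpow_two, hsq, one_zpow, one_mul, zpow_one]
      have hsub : (Set.univ : Set (E₁ × E₂)) ⊆ {1, u, v, u * v} := by
        intro e _
        obtain ⟨z, rfl⟩ := hsurj e
        obtain ⟨x, hx, y, hy, hz⟩ := hP z.1 z.2
        obtain ⟨i, hi⟩ := mem_zpowers_iff.1 (hx₀ ⟨x, hx⟩)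
        obtain ⟨j, hj⟩ := mem_zpowers_iff.1 (hy₀ ⟨y, hy⟩)
        have e : z = Subgroup.inclusion hXP (x₀ ^ i) * Subgroup.inclusion hYP (y₀ ^ j) :=
          Subtype.ext (by rw [hi, hj]; exact hz)
        rw [e, map_mul, map_zpow, map_zpow, map_zpow, map_zpow]
        simp only [Set.mem_insert_iff, Set.mem_singleton_iff]
        rcases hpow u i with h | h <;> rcases hpow v j with h' | h' <;> rw [h, h'] <;> simp
      have h16 := Set.ncard_le_ncard hsub (Set.toFinite _)
      rw [Set.ncard_univ, Nat.card_prod, hE₁, hE₂] at h16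
      have h4 : ({1, u, v, u * v} : Set (E₁ × E₂)).ncard ≤ 4 := by
        refine (Set.ncard_insert_le _ _).trans (Nat.succ_le_succ ?_)
        refine (Set.ncard_insert_le _ _).trans (Nat.succ_le_succ ?_)
        refine (Set.ncard_insert_le _ _).trans (Nat.succ_le_succ ?_)
        rw [Set.ncard_singleton]
      omega

end CfsgLib.CyclicZ
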