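import Cfsg.Agent.Perm.CyclicZ.DOne

/-!
# The involution of `K` fixes exactly two points

If it fixed `D > 2` points, its centralizer modulo the kernel `W` on the fixed points would again
satisfy the hypotheses, so by induction `D = p + 1` and that quotient is sharply triply transitive.
Then `W` is central, and an element of `C_K(t)` outside `W`, conjugated into the centralizer of
`⟨s, t⟩`, puts `s t` into `W`, which is absurd.
-/

set_option autoImplicit false
set_option linter.unusedSectionVars false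
set_option linter.style.haveILetI false

namespace CfsgLib.CyclicZ

open MulAction Subgroup
open scoped commutatorElement
open Hyp (FixInv)

universe u

/-- The induced action of a centralizer on the fixed points. -/
@[reducible] def fixAction {G : Type u} [Group G] {Ω : Type u} [MulAction G Ω] (s : G) :
    MulAction (Subgroup.centralizer ({s} : Set G)) (fixedBy Ω s) where
  smul h x := ⟨(h : G) • x.1, by
    show s • (h : G) • x.1 = (h : G) • x.1
    rw [← mul_smul, ← Subgroup.mem_centralizer_singleton_iff.1 h.2, mul_smul, x.2]⟩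
  one_smul x := Subtype.ext (one_smul G x.1)
  mul_smul g h x := Subtype.ext (mul_smul (g : G) (h : G) x.1)

theorem mem_zpowers_of_orderOf_eq {C : Type*} [Group C] [Finite C] [IsCyclic C] {x z : C}
    (h : orderOf z = orderOf x) : z ∈ zpowers x := by
  classical
  haveI := Fintype.ofFinite C
  by_contra hne
  have h1 : (Finset.univ.filter fun w : C => w ^ orderOf x = 1).card ≤ orderOf x :=
    IsCyclic.card_pow_eq_one_le (orderOf_pos _)
  have h2 : insert z (Finset.univ.filter fun w : C => w ∈ zpowers x) ⊆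
      Finset.univ.filter fun w : C => w ^ orderOf x = 1 := by
    intro w hw
    simp only [Finset.mem_insert, Finset.mem_filter, Finset.mem_univ, true_and] at hw ⊢
    rcases hw with rfl | hw
    · rw [← h, pow_orderOf_eq_one]
    · exact orderOf_dvd_iff_pow_eq_one.1 (orderOf_dvd_of_mem_zpowers hw)
  have h3 := Finset.card_le_card h2
  rw [Finset.card_insert_of_notMem (by simpa using hne)] at h3
  have h4 : (Finset.univ.filter fun w : C => w ∈ zpowers x).card = orderOf x := by
    rw [← Nat.card_zpowers, Nat.card_eq_fintype_card]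
    exact (Fintype.card_subtype _).symm
  omega

/-- The main induction. -/
theorem two_of_hyp : ∀ (m : ℕ) {G : Type u} [Group G] [Finite G] {Ω : Type u} [MulAction G Ω]
    [Finite Ω] {a : G} {ω : Ω} (_ : Hyp a ω) {s : G}, Nat.card G ≤ m → s ∈ KOf a ω → s * s = 1 →
    s ≠ 1 → (fixedBy Ω s).ncard = 2 := by
  intro m
  induction m with
  | zero =>
    intro G _ _ Ω _ _ a ω _ s hle _ _ _
    have := (Nat.card_pos : 0 < Nat.card G)
    omega
  | succ m IH =>
    intro G _ _ Ω _ _ a ω H s hle hs hs2 hs1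
    classical
    haveI := Fintype.ofFinite Ω
    haveI := H.zgroup
    by_contra hD2
    set D := (fixedBy Ω s).ncard with hDdef
    have h2D : 2 ≤ D := H.fixedBy_two_le hs
    obtain ⟨hcount, hfixinv, -⟩ := H.count hs hs2 hs1
    rw [← hDdef] at hcount
    set t := tOf a Ω with ht
    have hst : t * s = s * t := H.s_comm_t hs hs2 hs1
    have hsω : s • ω = ω := (mem_KOf.1 hs).1
    have hsη : s • t • ω = t • ω := (mem_KOf.1 hs).2
    set Hs := Subgroup.centralizer ({s} : Set G) with hHs
    have memHs : ∀ {g : G}, g ∈ Hs ↔ g * s = s * g := fun {g} =>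
      Subgroup.mem_centralizer_singleton_iff
    have htHs : t ∈ Hs := memHs.2 hst
    -- elements of the regular group
    have hA : ∀ x ∈ zpowers a, (x ∈ Hs ↔ s • x • ω = x • ω) := by
      intro x hx
      constructor
      · intro h; rw [← mul_smul, ← memHs.1 h, mul_smul, hsω]
      · intro h
        refine memHs.2 ?_
        have htx : s • t • x • ω = t • x • ω := by rw [← mul_smul, ← hst, mul_smul, h]
        have hxη : x • t • ω = t • x • ω := by
          rw [← mul_smul, Hyp.comm_zpowers hx Hyp.t_mem, mul_smul]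
        have hsq : x * s * x⁻¹ * (x * s * x⁻¹) = 1 := by
          rw [show x * s * x⁻¹ * (x * s * x⁻¹) = x * (s * s) * x⁻¹ by group, hs2]; group
        have e := H.fix_pair_unique hsq hs2 (fun e => hs1 (conj_eq_one_iff.1 e)) hs1
          (H.t_ne (x • ω)).symm (by rw [mul_smul, inv_smul_smul, mul_smul, hsω])
          (by rw [← hxη, mul_smul, inv_smul_smul, mul_smul, hsη]) h htx
        exact mul_inv_eq_iff_eq_mul.1 e
    set A0 : Subgroup G := zpowers a ⊓ Hs with hA0
    have hA0card : Nat.card A0 = D := by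
      rw [hDdef, ← Nat.card_coe_set_eq]
      refine Nat.card_eq_of_bijective
        (fun x : A0 => (⟨(x : G) • ω, (hA x x.2.1).1 x.2.2⟩ : fixedBy Ω s)) ⟨?_, ?_⟩
      · intro x y h
        exact Subtype.ext (H.eq_of_smul_eq x.2.1 y.2.1 (congrArg Subtype.val h))
      · rintro ⟨p, hp⟩
        obtain ⟨x, hx, rfl⟩ := H.exists_mem_zpowers p
        exact ⟨⟨x, hx, (hA x hx).2 hp⟩, rfl⟩
    have hDdvd : D ∣ Nat.card Ω := by
      rw [← hA0card, ← H.orderOf_a, ← Nat.card_zpowers]
      exact Subgroup.card_dvd_of_le inf_le_left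
    have hDeven : 2 ∣ D := by
      have h : orderOf t = 2 := orderOf_eq_prime (by rw [sq]; exact H.t_sq) H.t_ne_one
      rw [← hA0card, ← h, ← Subgroup.orderOf_mk (H := A0) t ⟨Hyp.t_mem, htHs⟩]
      exact orderOf_dvd_natCard _
    have hD4 : 4 ≤ D := by omega
    obtain ⟨m0, hm0⟩ := hDdvd
    set a0 := a ^ m0 with ha0
    have hm0pos : 0 < m0 := by
      rcases Nat.eq_zero_or_pos m0 with h | h
      · have := H.big
        rw [h, mul_zero] at hm0
        omega
      · exact h
    have horda0 : orderOf a0 = D := by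
      rw [ha0, orderOf_pow' a hm0pos.ne', H.orderOf_a, hm0,
        Nat.gcd_eq_right (Dvd.intro_left D rfl), Nat.mul_div_cancel _ hm0pos]
    have hA0eq : A0 = zpowers a0 := by
      refine Subgroup.eq_of_le_of_card_ge (fun x hx => ?_)
        (by rw [Nat.card_zpowers, horda0, hA0card])
      obtain ⟨i, rfl⟩ := mem_zpowers_iff.1 hx.1
      have h1 : (a ^ i) ^ (D : ℤ) = 1 := by
        have := congrArg Subtype.val (pow_card_eq_one' (x := (⟨a ^ i, hx⟩ : A0)))
        rw [hA0card] at this
        simpa [zpow_natCast] using this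
      rw [← zpow_mul, ← orderOf_dvd_iff_zpow_eq_one, H.orderOf_a, hm0, Nat.cast_mul,
        mul_comm i] at h1
      obtain ⟨j, hj⟩ := Int.dvd_of_mul_dvd_mul_left (by exact_mod_cast (by omega : D ≠ 0)) h1
      refine mem_zpowers_iff.2 ⟨j, ?_⟩
      rw [ha0, ← zpow_natCast, ← zpow_mul, hj]
    have ha0mem : a0 ∈ A0 := hA0eq ▸ mem_zpowers a0
    have ht0 : a0 ^ (D / 2) = t := by
      rw [ha0, ← pow_mul, ht, tOf, hm0]
      obtain ⟨e, he⟩ := hDeven
      rw [he, Nat.mul_div_cancel_left _ two_pos, mul_assoc, Nat.mul_div_cancel_left _ two_pos,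
        mul_comm]
    -- the action of the centralizer on the fixed points
    letI := fixAction (Ω := Ω) s
    let π := MulAction.toPermHom Hs (fixedBy Ω s)
    let X : Subgroup (Equiv.Perm (fixedBy Ω s)) := π.range
    let ω' : fixedBy Ω s := ⟨ω, hsω⟩
    let η' : fixedBy Ω s := ⟨t • ω, hsη⟩
    let r : Hs → X := fun h => ⟨π h, h, rfl⟩
    have r_smul : ∀ (h : Hs) (x : fixedBy Ω s), ((r h) • x).1 = (h : G) • x.1 := fun _ _ => rfl
    have r_mul : ∀ g h : Hs, r (g * h) = r g * r h := fun g h => Subtype.ext (map_mul π g h)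
    have r_surj : Function.Surjective r := by
      rintro ⟨_, h, rfl⟩
      exact ⟨h, rfl⟩
    let a' : X := r ⟨a0, ha0mem.2⟩
    have hcardΔ : Nat.card (fixedBy Ω s) = D := Nat.card_coe_set_eq _
    let rhom : Hs →* X := π.rangeRestrict
    have hrhom : ∀ h, rhom h = r h := fun h => rfl
    have hX : Hyp a' ω' := by
      refine ⟨inferInstance, is_two_pretransitive_iff.2 fun {p q p' q'} hpq hpq' => ?_, ?_, ?_,
        by rw [hcardΔ]; exact even_iff_two_dvd.2 hDeven, by rw [hcardΔ]; omega⟩
      · obtain ⟨g, hgp, hgq⟩ := H.pair (fun e => hpq (Subtype.ext e))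
          (fun e => hpq' (Subtype.ext e))
        have hgs : g ∈ Hs := by
          refine memHs.2 ?_
          have hsq : g * s * g⁻¹ * (g * s * g⁻¹) = 1 := by
            rw [show g * s * g⁻¹ * (g * s * g⁻¹) = g * (s * s) * g⁻¹ by group, hs2]; group
          have e := H.fix_pair_unique hsq hs2 (fun e => hs1 (conj_eq_one_iff.1 e)) hs1
            (fun e => hpq' (Subtype.ext e) : (p' : Ω) ≠ q')
            (by rw [← hgp, mul_smul, inv_smul_smul, mul_smul, p.2])
            (by rw [← hgq, mul_smul, inv_smul_smul, mul_smul, q.2]) p'.2 q'.2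
          exact mul_inv_eq_iff_eq_mul.1 e
        exact ⟨r ⟨g, hgs⟩, Subtype.ext ((r_smul _ _).trans hgp),
          Subtype.ext ((r_smul _ _).trans hgq)⟩
      · have hsurj : Function.Surjective fun x : zpowers a' => x • ω' := by
          rintro ⟨p, hp⟩
          obtain ⟨x, hx, rfl⟩ := H.exists_mem_zpowers p
          have hx0 : x ∈ zpowers a0 := hA0eq ▸ (⟨hx, (hA x hx).2 hp⟩ : x ∈ A0)
          obtain ⟨i, rfl⟩ := mem_zpowers_iff.1 hx0
          refine ⟨⟨a' ^ i, zpow_mem_zpowers _ _⟩, Subtype.ext ?_⟩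
          show ((a' ^ i) • ω').1 = a0 ^ i • ω
          rw [show a' ^ i = rhom (⟨a0, ha0mem.2⟩ ^ i) by rw [map_zpow]; rfl, hrhom, r_smul]
          rfl
        refine (Nat.bijective_iff_surjective_and_card _).2 ⟨hsurj, le_antisymm ?_
          (Nat.card_le_card_of_surjective _ hsurj)⟩
        rw [Nat.card_zpowers, hcardΔ, ← horda0]
        refine Nat.le_of_dvd (orderOf_pos _) ?_
        have h : orderOf a' ∣ orderOf (⟨a0, ha0mem.2⟩ : Hs) :=
          orderOf_map_dvd rhom (⟨a0, ha0mem.2⟩ : Hs)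
        rwa [Subgroup.orderOf_mk] at h
      · haveI : IsZGroup ↥(stabilizer G ω ⊓ Hs) :=
          IsZGroup.of_injective (f := Subgroup.inclusion inf_le_left)
            (Subgroup.inclusion_injective _)
        let f : ↥(stabilizer G ω ⊓ Hs) →* stabilizer X ω' :=
          (rhom.comp (Subgroup.inclusion inf_le_right)).codRestrict _ fun y =>
            Subtype.ext ((r_smul _ _).trans y.2.1)
        refine IsZGroup.of_surjective (f := f) ?_
        rintro ⟨z, hz⟩
        obtain ⟨h, rfl⟩ := r_surj z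
        exact ⟨⟨h, (r_smul h ω').symm.trans (congrArg Subtype.val hz), h.2⟩, rfl⟩
    have hXlt : Nat.card X ≤ m := by
      have hne : Hs ≠ ⊤ := fun e => hs1 <| H.eq_one_of_smul_eq_self fun x => by
        haveI := H.trans
        obtain ⟨g, rfl⟩ := exists_smul_eq G ω x
        have hg : g ∈ Hs := e ▸ Subgroup.mem_top g
        rw [← mul_smul, ← memHs.1 hg, mul_smul, hsω]
      have h1 : Nat.card X ≤ Nat.card Hs := Nat.card_le_card_of_surjective _ r_surj
      have h2 : Nat.card Hs < Nat.card G := by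
        rw [← Subgroup.card_top (G := G)]
        exact lt_of_le_of_ne (Subgroup.card_le_of_le le_top)
          fun e => hne (Subgroup.eq_of_le_of_card_ge le_top e.ge)
      omega
    obtain ⟨s', hs', hs'2, hs'1⟩ := hX.exists_involution
    obtain ⟨hprime, hK', hpsi', hsemi'⟩ := hX.dOne hs' hs'2 hs'1 (IH hX hXlt hs' hs'2 hs'1)
    rw [hcardΔ] at hprime hK'
    have ht' : tOf a' (fixedBy Ω s) = r ⟨t, htHs⟩ := by
      rw [tOf, hcardΔ, show a' = rhom ⟨a0, ha0mem.2⟩ from rfl, ← map_pow, hrhom]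
      exact congrArg r (Subtype.ext ht0)
    have hK'mem : ∀ h : Hs, r h ∈ KOf a' ω' ↔ (h : G) ∈ KOf a ω := by
      intro h
      rw [mem_KOf, mem_KOf, ht']
      constructor
      · rintro ⟨h1, h2⟩
        exact ⟨congrArg Subtype.val h1, congrArg Subtype.val h2⟩
      · rintro ⟨h1, h2⟩
        exact ⟨Subtype.ext h1, Subtype.ext h2⟩
    -- `K` lies in the centralizer
    have hKHs : ∀ {y}, y ∈ KOf a ω → y ∈ Hs := fun hy => memHs.2 (H.K_comm hy hs)
    -- the kernel
    let Wp : G → Prop := fun y => y ∈ Hs ∧ ∀ p : Ω, s • p = p → y • p = p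
    have hW1 : ∀ {h : Hs}, r h = 1 ↔ Wp h := by
      intro h
      constructor
      · intro e
        refine ⟨h.2, fun p hp => ?_⟩
        have := r_smul h ⟨p, hp⟩
        rw [e, one_smul] at this
        exact this.symm
      · intro e
        exact Subtype.ext (Equiv.ext fun x => Subtype.ext (e.2 x.1 x.2))
    let W : Subgroup G :=
      { carrier := {y | Wp y}
        mul_mem' := fun {y z} hy hz => ⟨mul_mem hy.1 hz.1, fun p hp => by
          rw [mul_smul, hz.2 p hp, hy.2 p hp]⟩
        one_mem' := ⟨one_mem _, fun p _ => one_smul G p⟩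
        inv_mem' := fun {y} hy => ⟨inv_mem hy.1, fun p hp => inv_smul_eq_iff.2 (hy.2 p hp).symm⟩ }
    have hWmem : ∀ {y}, y ∈ W ↔ Wp y := Iff.rfl
    have hWK : ∀ {y}, y ∈ W → y ∈ KOf a ω := fun hy =>
      mem_KOf.2 ⟨(hWmem.1 hy).2 ω hsω, (hWmem.1 hy).2 _ hsη⟩
    have hsW : s ∈ W := hWmem.2 ⟨memHs.2 rfl, fun p hp => hp⟩
    have hWnorm : ∀ {g y}, g ∈ Hs → y ∈ W → g * y * g⁻¹ ∈ W := by
      intro g y hg hy
      refine hWmem.2 ⟨mul_mem (mul_mem hg (hWmem.1 hy).1) (inv_mem hg), fun p hp => ?_⟩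
      have hgp : s • g⁻¹ • p = g⁻¹ • p := by
        rw [← mul_smul, ← memHs.1 (inv_mem hg), mul_smul, hp]
      rw [mul_smul, mul_smul, (hWmem.1 hy).2 _ hgp, smul_inv_smul]
    -- facts about `K`
    have hb : ∀ {y}, y ∈ KOf a ω → ∀ {p : Ω}, s • p = p → p ≠ ω → p ≠ t • ω → y • p = p → y ∈ W := by
      intro y hy p hp hpω hpη hyp
      have h1 := (hK'mem ⟨y, hKHs hy⟩).2 hy
      have h2 := hsemi' _ h1 ⟨p, hp⟩ (fun e => hpω (congrArg Subtype.val e))
        (fun e => hpη (by rw [ht'] at e; exact congrArg Subtype.val e)) (Subtype.ext hyp)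
      exact hWmem.2 (hW1.1 h2)
    have hc : ∀ {y}, y ∈ KOf a ω → t * y * t * y ∈ W := by
      intro y hy
      have h1 := (hK'mem ⟨y, hKHs hy⟩).2 hy
      have h2 : (⟨_, h1⟩ : KOf a' ω') ∈ hX.psi.ker := hpsi' ▸ Subgroup.mem_top _
      rw [hX.mem_psi_ker] at h2
      rw [ht'] at h2
      have h3 : r (⟨t, htHs⟩ * ⟨y, hKHs hy⟩ * ⟨t, htHs⟩ * ⟨y, hKHs hy⟩) = 1 := by
        rw [r_mul, r_mul, r_mul]
        exact (mul_eq_one_iff_eq_inv).2 h2
      exact hWmem.2 (hW1.1 h3)
    -- `W` is central
    let kmap : KOf a ω →* KOf a' ω' :=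
      (rhom.comp (Subgroup.inclusion fun y hy => hKHs hy)).codRestrict _
        fun y => (hK'mem ⟨y, hKHs y.2⟩).2 y.2
    have hkmap : Function.Surjective kmap := by
      rintro ⟨z, hz⟩
      obtain ⟨h, rfl⟩ := r_surj z
      exact ⟨⟨h, (hK'mem h).1 hz⟩, rfl⟩
    have hkker : ∀ {y : KOf a ω}, kmap y = 1 ↔ (y : G) ∈ W := by
      intro y
      rw [← Subtype.coe_inj]
      exact hW1.trans hWmem.symm
    have hkW : Nat.card W * (D - 2) = Nat.card (KOf a ω) := by
      rw [← hK', ← Subgroup.card_mul_index kmap.ker, Subgroup.index_ker,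
        MonoidHom.range_eq_top.2 hkmap, Subgroup.card_top]
      congr 1
      exact Nat.card_congr
        { toFun := fun y => ⟨⟨y.1, hWK y.2⟩, hkker.2 y.2⟩
          invFun := fun y => ⟨y.1.1, hkker.1 y.2⟩
          left_inv := fun _ => rfl
          right_inv := fun _ => rfl }
    have hy0 : ∃ y ∈ KOf a ω, y ∉ W := by
      by_contra! h
      have h1 : Nat.card (KOf a ω) ≤ Nat.card W := Subgroup.card_le_of_le fun y hy => h y hy
      have h2 : Nat.card W * 2 ≤ Nat.card W * (D - 2) := Nat.mul_le_mul_left _ (by omega)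
      have : 0 < Nat.card W := Nat.card_pos
      omega
    have hd0 : ∃ p : Ω, s • p = p ∧ p ≠ ω ∧ p ≠ t • ω := by
      by_contra! h
      have h1 : D ≤ ({ω, t • ω} : Set Ω).ncard := by
        rw [hDdef]
        refine Set.ncard_le_ncard (fun x hx => ?_) (Set.toFinite _)
        by_cases hxω : x = ω
        · exact Or.inl hxω
        · exact Or.inr (h x hx hxω)
      rw [Set.ncard_pair (H.t_ne ω).symm] at h1
      omega
    obtain ⟨δ₀, hδ₀, hδ₀ω, hδ₀η⟩ := hd0
    have hpairHs : ∀ {p q p' q' : Ω}, s • p = p → s • q = q → s • p' = p' → s • q' = q' →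
        p ≠ q → p' ≠ q' → ∃ g ∈ Hs, g • p = p' ∧ g • q = q' := by
      intro p q p' q' hp hq hp' hq' hpq hpq'
      obtain ⟨g, h1, h2⟩ := hX.pair (x := ⟨p, hp⟩) (y := ⟨q, hq⟩) (x' := ⟨p', hp'⟩)
        (y' := ⟨q', hq'⟩) (fun e => hpq (congrArg Subtype.val e))
        (fun e => hpq' (congrArg Subtype.val e))
      obtain ⟨h, rfl⟩ := r_surj g
      exact ⟨h, h.2, congrArg Subtype.val h1, congrArg Subtype.val h2⟩
    have hHsfix : ∀ {g}, g ∈ Hs → ∀ {p : Ω}, s • p = p → s • g • p = g • p := fun hg p hp => by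
      rw [← mul_smul, ← memHs.1 hg, mul_smul, hp]
    let N : Subgroup G := Hs ⊓ Subgroup.centralizer (W : Set G)
    have hKN : ∀ {y}, y ∈ KOf a ω → y ∈ N := fun hy => ⟨hKHs hy,
      Subgroup.mem_centralizer_iff.2 fun w hw => (H.K_comm hy (hWK hw)).symm⟩
    have hNnorm : ∀ {g y}, g ∈ Hs → y ∈ N → g * y * g⁻¹ ∈ N := by
      intro g y hg hy
      refine Subgroup.mem_inf.2 ⟨Hs.mul_mem (Hs.mul_mem hg hy.1) (Hs.inv_mem hg),
        Subgroup.mem_centralizer_iff.2 fun w hw => ?_⟩
      have hw' := hWnorm (inv_mem hg) hw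
      rw [inv_inv] at hw'
      have e := Subgroup.mem_centralizer_iff.1 hy.2 _ hw'
      calc w * (g * y * g⁻¹) = g * (g⁻¹ * w * g * y) * g⁻¹ := by group
        _ = g * (y * (g⁻¹ * w * g)) * g⁻¹ := by rw [e]
        _ = _ := by group
    set Bs : Subgroup G := stabilizer G ω ⊓ Hs with hBs
    have hBN : Bs ≤ N := by
      obtain ⟨y₀, hy₀, hy₀W⟩ := hy0
      obtain ⟨b, hbH, hbω, hbη⟩ := hpairHs hsω hsη hsω hδ₀ (H.t_ne ω).symm (Ne.symm hδ₀ω)
      have hb' : b * y₀ * b⁻¹ ∈ N := hNnorm hbH (hKN hy₀)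
      have hbn : b * y₀ * b⁻¹ ∉ KOf a ω := fun hk => by
        have hfix : (b * y₀ * b⁻¹) • δ₀ = δ₀ := by
          rw [← hbη, mul_smul, inv_smul_smul, mul_smul, (mem_KOf.1 hy₀).2]
        have h := hWnorm (inv_mem hbH) (hb hk hδ₀ hδ₀ω hδ₀η hfix)
        rw [show b⁻¹ * (b * y₀ * b⁻¹) * b⁻¹⁻¹ = y₀ by group] at h
        exact hy₀W h
      have hle1 : KOf a ω ≤ Bs ⊓ N := fun y hy => ⟨⟨(mem_KOf.1 hy).1, hKHs hy⟩, hKN hy⟩
      have hlt : KOf a ω < Bs ⊓ N := lt_of_le_not_ge hle1 fun h => hbn (h ⟨⟨show (b * y₀ * b⁻¹) • ω = ω by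
        rw [mul_smul, mul_smul, inv_smul_eq_iff.2 hbω.symm, (mem_KOf.1 hy₀).1, hbω], hb'.1⟩, hb'⟩)
      have hidx : (KOf a ω).relIndex Bs = D - 1 := by
        have hle : KOf a ω ≤ Bs := hle1.trans inf_le_left
        rw [Subgroup.relIndex, Subgroup.index]
        have e : (KOf a ω).subgroupOf Bs = stabilizer Bs (t • ω) := by
          ext ⟨g, hg⟩
          exact ⟨fun h => (mem_KOf.1 h).2, fun h => mem_KOf.2 ⟨hg.1, h⟩⟩
        rw [e, ← Subgroup.index, MulAction.index_stabilizer]
        have horb : MulAction.orbit Bs (t • ω) = fixedBy Ω s \ {ω} := by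
          ext x
          constructor
          · rintro ⟨g, rfl⟩
            exact ⟨hHsfix g.2.2 hsη, fun e => H.t_ne ω
              (MulAction.injective (g : G) (e.trans (g.2.1 : (g : G) • ω = ω).symm))⟩
          · rintro ⟨hx, hxω⟩
            obtain ⟨g, hg, hgω, hgx⟩ := hpairHs hsω hsη hsω hx (H.t_ne ω).symm (Ne.symm hxω)
            exact ⟨⟨g, hgω, hg⟩, hgx⟩
        rw [horb, Set.ncard_sdiff_singleton_of_mem (show ω ∈ fixedBy Ω s from hsω)]
      have h2 := Subgroup.relIndex_mul_relIndex _ _ _ hle1 inf_le_left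
      rw [hidx] at h2
      rcases (Nat.Prime.eq_one_or_self_of_dvd hprime _ ⟨_, h2.symm⟩) with h | h
      · exact absurd (Subgroup.relIndex_eq_one.1 h) hlt.not_ge
      · rw [h] at h2
        have h3 : (Bs ⊓ N).relIndex Bs = 1 :=
          Nat.eq_of_mul_eq_mul_left (by omega) (h2.trans (mul_one _).symm)
        exact (Subgroup.relIndex_eq_one.1 h3).trans inf_le_right
    have hHsN : ∀ {g}, g ∈ Hs → g ∈ N := by
      -- elements fixing `η`
      have hη : ∀ {g}, g ∈ Hs → g • t • ω = t • ω → g ∈ N := fun {g} hg hgη => by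
        have h := hBN ⟨(show t * g * t ∈ stabilizer G ω by
          rw [mem_stabilizer_iff, mul_smul, mul_smul, hgη, H.t_smul_smul]),
          mul_mem (mul_mem htHs hg) htHs⟩
        have := hNnorm htHs h
        rw [H.t_inv] at this
        rwa [show t * (t * g * t) * t = t * t * g * (t * t) by group, H.t_sq, one_mul,
          mul_one] at this
      intro g hg
      suffices h : ∃ n ∈ N, n • ω = g • ω by
        obtain ⟨n, hn, hnω⟩ := h
        have h1 : n⁻¹ * g ∈ Bs := ⟨(show n⁻¹ * g ∈ stabilizer G ω by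
          rw [mem_stabilizer_iff, mul_smul, ← hnω, inv_smul_smul]), Hs.mul_mem (Hs.inv_mem hn.1) hg⟩
        have := mul_mem hn (hBN h1)
        rwa [mul_inv_cancel_left] at this
      by_cases hgη : g • ω = t • ω
      · obtain ⟨g1, hg1, hg1η, hg1ω⟩ := hpairHs hsη hsω hsη hδ₀ (H.t_ne ω) (Ne.symm hδ₀η)
        obtain ⟨g2, hg2, hg2ω, hg2δ⟩ := hpairHs hsω hδ₀ hsω hsη (Ne.symm hδ₀ω) (H.t_ne ω).symm
        exact ⟨g2 * g1, mul_mem (hBN ⟨hg2ω, hg2⟩) (hη hg1 hg1η),
          by rw [mul_smul, hg1ω, hg2δ, hgη]⟩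
      · obtain ⟨g1, hg1, hg1η, hg1ω⟩ :=
          hpairHs hsη hsω hsη (hHsfix hg hsω) (H.t_ne ω) (Ne.symm hgη)
        exact ⟨g1, hη hg1 hg1η, hg1ω⟩
    have hWc : ∀ {g w}, g ∈ Hs → w ∈ W → g * w = w * g := fun hg hw =>
      (Subgroup.mem_centralizer_iff.1 (hHsN hg).2 _ hw).symm
    -- elements of `K` squaring into `W`
    have hsqW : ∀ {y}, y ∈ KOf a ω → t * y = y * t → y * y ∈ W := fun {y} hy hty => by
      have h := hc hy
      rwa [hty, mul_assoc y t t, H.t_sq, mul_one] at h
    have hsame : ∀ {y z}, y ∈ KOf a ω → z ∈ KOf a ω → y ∉ W → z ∉ W → y * y ∈ W → z * z ∈ W →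
        y⁻¹ * z ∈ W := by
      intro y z hy hz hyW hzW hy2 hz2
      have hy' : kmap ⟨y, hy⟩ * kmap ⟨y, hy⟩ = 1 := by rw [← map_mul]; exact hkker.2 hy2
      have hz' : kmap ⟨z, hz⟩ * kmap ⟨z, hz⟩ = 1 := by rw [← map_mul]; exact hkker.2 hz2
      rcases hX.K_invol_unique (kmap ⟨z, hz⟩).2 (kmap ⟨y, hy⟩).2 (congrArg Subtype.val hz')
        (congrArg Subtype.val hy') (fun e => hyW (hkker.1 (Subtype.ext e))) with e | e
      · exact absurd (hkker.1 (Subtype.ext e)) hzW
      · exact (hkker (y := ⟨y, hy⟩⁻¹ * ⟨z, hz⟩)).1 (by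
          rw [map_mul, map_inv, (Subtype.ext e : kmap ⟨z, hz⟩ = kmap ⟨y, hy⟩), inv_mul_cancel])
    have htW : ∀ {w}, w ∈ W → t * w = w * t := fun hw => hWc htHs hw
    -- some element of `C_K(t)` lies outside `W`
    have hL : ∃ h0 ∈ KOf a ω, t * h0 = h0 * t ∧ h0 ∉ W := by
      by_contra! hall
      have hker : Nat.card H.phi.ker = Nat.card W := Nat.card_congr
        { toFun := fun z => ⟨z.1.1, hall _ z.1.2 (H.mem_phi_ker.1 z.2)⟩
          invFun := fun w => ⟨⟨w.1, hWK w.2⟩, H.mem_phi_ker.2 (htW w.2)⟩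
          left_inv := fun _ => rfl
          right_inv := fun _ => rfl }
      have hq : H.qOf = D - 2 := by
        have h := H.qOf_mul
        rw [hker, ← hkW, mul_comm (Nat.card W)] at h
        exact Nat.eq_of_mul_eq_mul_right Nat.card_pos h
      -- `n - 1 = p ^ 3`
      obtain ⟨p, hp⟩ : ∃ p, D = p + 1 := ⟨D - 1, by omega⟩
      have hn : Nat.card Ω = p ^ 3 + 1 := by
        rw [hcount, hq, hp]
        obtain ⟨p', hp'⟩ : ∃ p', p = p' + 1 := ⟨p - 1, by omega⟩
        rw [hp', Nat.add_sub_cancel, show p' + 1 + 1 - 2 = p' by omega]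
        ring
      have hpp : p.Prime := by simpa [hp] using hprime
      haveI := Fact.mk hpp
      have hp2 : p ≠ 2 := by omega
      -- an element of order `p` centralizing `s`
      obtain ⟨x, hxB, hx⟩ : ∃ x ∈ Bs, orderOf x = p := by
        have hdvd : p ∣ Nat.card Bs := by
          have e : stabilizer Bs (t • ω) = (KOf a ω).subgroupOf Bs := by
            ext ⟨g, hg⟩
            exact ⟨fun h => mem_KOf.2 ⟨hg.1, h⟩, fun h => (mem_KOf.1 h).2⟩
          refine Dvd.dvd.trans ?_ (Subgroup.index_dvd_card (stabilizer Bs (t • ω)))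
          rw [MulAction.index_stabilizer]
          have horb : MulAction.orbit Bs (t • ω) = fixedBy Ω s \ {ω} := by
            ext x
            constructor
            · rintro ⟨g, rfl⟩
              exact ⟨hHsfix g.2.2 hsη, fun e => H.t_ne ω
                (MulAction.injective (g : G) (e.trans (g.2.1 : (g : G) • ω = ω).symm))⟩
            · rintro ⟨hx, hxω⟩
              obtain ⟨g, hg, hgω, hgx⟩ := hpairHs hsω hsη hsω hx (H.t_ne ω).symm (Ne.symm hxω)
              exact ⟨⟨g, hgω, hg⟩, hgx⟩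
          rw [horb, Set.ncard_sdiff_singleton_of_mem (show ω ∈ fixedBy Ω s from hsω), ← hDdef, hp, Nat.add_sub_cancel]
        obtain ⟨x, hx⟩ := exists_prime_orderOf_dvd_card' p hdvd
        exact ⟨x, x.2, by rw [Subgroup.orderOf_coe]; exact hx⟩
      set B := stabilizer G ω with hB
      set F : Subgroup B := commutator B with hF
      have hFfree : ∀ f : F, ((f : B) : G) ∈ KOf a ω → f = 1 := fun f hf => by
        have h : ((f : B) : G) ∈ ⁅B, B⁆ := by
          rw [← Subgroup.map_subtype_commutator]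
          exact Subgroup.mem_map_of_mem _ f.2
        exact Subtype.ext (Subtype.ext (H.commutator_semiregular h (H.t_ne ω) (mem_KOf.1 hf).2))
      let KB : Subgroup B := (KOf a ω).subgroupOf B
      have hKB : Nat.card KB = Nat.card (KOf a ω) :=
        Nat.card_congr (Subgroup.subgroupOfEquivOfLe inf_le_left).toEquiv
      have hFdvd : Nat.card F ∣ p ^ 3 := by
        have hinj : Function.Injective ((QuotientGroup.mk' F).domRestrict KB) := by
          rw [injective_iff_map_eq_one]
          intro y hy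
          have hyF : (y : B) ∈ F := (QuotientGroup.eq_one_iff _).1 hy
          have := hFfree ⟨y.1, hyF⟩ y.2
          exact Subtype.ext (congrArg (fun f : F => (f : B)) this)
        have h1 : Nat.card KB ∣ F.index := Subgroup.card_dvd_of_injective _ hinj
        have h2 : Nat.card F * Nat.card KB ∣ Nat.card B := by
          rw [← Subgroup.card_mul_index F]
          exact Nat.mul_dvd_mul_left _ h1
        rw [hKB, H.card_stabilizer, hn, Nat.add_sub_cancel, mul_comm] at h2
        exact Nat.dvd_of_mul_dvd_mul_left Nat.card_pos h2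
      haveI hFcyc : IsCyclic F := IsZGroup.isCyclic_commutator B
      have hcomm : ∀ b ∈ B, b * s = s * b := by
        intro b hbB
        let vB : B := ⁅(⟨b, hbB⟩ : B), ⟨s, hsω⟩⁆
        have hvF : vB ∈ F := by
          rw [hF, _root_.commutator_def]
          exact commutator_mem_commutator (Subgroup.mem_top _) (Subgroup.mem_top _)
        by_contra hne
        have hv1 : (⟨vB, hvF⟩ : F) ≠ 1 := fun e => hne (commutatorElement_eq_one_iff_mul_comm.1
          (congrArg (fun f : F => ((f : B) : G)) e))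
        have hpF : p ∣ Nat.card F := by
          obtain ⟨j, hj, hj'⟩ := (Nat.dvd_prime_pow hpp).1 hFdvd
          rcases Nat.eq_zero_or_pos j with rfl | hj0
          · rw [pow_zero, Subgroup.card_eq_one] at hj'
            exact absurd (Subtype.ext ((Subgroup.eq_bot_iff_forall F).1 hj' _ hvF)) hv1
          · rw [hj']; exact dvd_pow_self p hj0.ne'
        have hxF : (⟨x, hxB.1⟩ : B) ∈ F := by
          have hcop := IsZGroup.coprime_commutator_index B
          rw [← QuotientGroup.eq_one_iff, ← orderOf_eq_one_iff]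
          refine Nat.eq_one_of_dvd_coprimes (Nat.Coprime.coprime_dvd_left hpF hcop) ?_
            (orderOf_dvd_natCard _)
          have h := orderOf_map_dvd (QuotientGroup.mk' F) (⟨x, hxB.1⟩ : B)
          rwa [Subgroup.orderOf_mk, hx] at h
        -- an element of order `p` inverted and centralized by `s`
        have hvp : p ∣ orderOf (⟨vB, hvF⟩ : F) := by
          obtain ⟨j, -, hj'⟩ := (Nat.dvd_prime_pow hpp).1
            ((orderOf_dvd_natCard (⟨vB, hvF⟩ : F)).trans hFdvd)
          rcases Nat.eq_zero_or_pos j with rfl | hj0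
          · exact absurd (orderOf_eq_one_iff.1 hj') hv1
          · rw [hj']; exact dvd_pow_self p hj0.ne'
        set z : F := ⟨vB, hvF⟩ ^ (orderOf (⟨vB, hvF⟩ : F) / p) with hz
        have hzo : orderOf z = p := orderOf_pow_orderOf_div (orderOf_pos _).ne' hvp
        obtain ⟨i, hi⟩ := mem_zpowers_iff.1
          (mem_zpowers_of_orderOf_eq (x := (⟨⟨x, hxB.1⟩, hxF⟩ : F)) (z := z) (by
            rw [hzo, ← Subgroup.orderOf_coe, ← Subgroup.orderOf_coe]; exact hx.symm))
        have hzx : ((z : B) : G) = x ^ i := congrArg (fun f : F => ((f : B) : G)) hi.symm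
        have hinv : MulAut.conj s ((z : B) : G) = ((z : B) : G)⁻¹ := by
          have hv : MulAut.conj s ((vB : B) : G) = ((vB : B) : G)⁻¹ := by
            show s * ⁅b, s⁆ * s⁻¹ = ⁅b, s⁆⁻¹
            rw [commutatorElement_def, inv_eq_of_mul_eq_one_right hs2, mul_assoc s, mul_assoc _ s s,
              hs2, mul_one]
            simp only [mul_inv_rev, inv_inv, inv_eq_of_mul_eq_one_right hs2]
            group
          simp only [hz, SubmonoidClass.coe_pow]
          rw [map_pow, hv, inv_pow]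
        have hcz : MulAut.conj s ((z : B) : G) = ((z : B) : G) := by
          rw [hzx, map_zpow]
          congr 1
          show s * x * s⁻¹ = x
          rw [← memHs.1 hxB.2, mul_inv_cancel_right]
        rw [hcz] at hinv
        have hz2 : z ^ 2 = 1 := by
          rw [sq]
          exact Subtype.ext (Subtype.ext (mul_eq_one_iff_eq_inv.2 hinv))
        have h2 := orderOf_dvd_of_pow_eq_one hz2
        rw [hzo] at h2
        exact hp2 ((Nat.prime_dvd_prime_iff_eq hpp Nat.prime_two).1 h2)
      refine hs1 (H.eq_one_of_smul_eq_self fun y => ?_)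
      rcases eq_or_ne y ω with rfl | hy
      · exact hsω
      obtain ⟨b, hbω, rfl⟩ := H.pair (H.t_ne ω).symm hy.symm
      rw [← mul_smul, ← hcomm b hbω, mul_smul, hsη]
    obtain ⟨h0, hh0, hth0, hh0W⟩ := hL
    -- a 2-element of `C_K(t)` outside `W`
    obtain ⟨h, hh, hth, hhW, c, hhc⟩ : ∃ h ∈ KOf a ω, t * h = h * t ∧ h ∉ W ∧
        ∃ c, h ^ 2 ^ c = 1 := by
      obtain ⟨c, r, hr, hor⟩ := Nat.exists_eq_two_pow_mul_odd (orderOf_pos h0).ne'
      refine ⟨h0 ^ r, pow_mem hh0 r, (Commute.pow_right hth0 r).eq, fun hW' => hh0W ?_, c,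
        by rw [← pow_mul, mul_comm, ← hor, pow_orderOf_eq_one]⟩
      obtain ⟨r', rfl⟩ := hr
      rw [pow_succ, pow_mul, sq] at hW'
      have := mul_mem (inv_mem (pow_mem (hsqW hh0 hth0) r')) hW'
      rwa [inv_mul_cancel_left] at this
    obtain ⟨j, hj⟩ : ∃ j : ℕ, (h * h) ^ j = s := by
      have hh1 : h ≠ 1 := fun e => hhW (e ▸ one_mem W)
      have hex : ∃ c, h ^ 2 ^ c = 1 := ⟨c, hhc⟩
      obtain ⟨c', hc'⟩ : ∃ c', Nat.find hex = c' + 1 := by
        refine ⟨Nat.find hex - 1, ?_⟩
        have : Nat.find hex ≠ 0 := fun e => hh1 (by simpa [e] using Nat.find_spec hex)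
        omega
      have h1 : h ^ 2 ^ c' * h ^ 2 ^ c' = 1 := by
        rw [← pow_add, ← two_mul, ← pow_succ', ← hc']
        exact Nat.find_spec hex
      have h2 : h ^ 2 ^ c' ≠ 1 := fun e => by
        have := Nat.find_le (h := hex) e
        omega
      rcases H.K_invol_unique (pow_mem hh _) hs h1 hs2 hs1 with e | e
      · exact absurd e h2
      rcases c' with _ | c''
      · rw [pow_zero, pow_one] at e
        exact absurd (e ▸ hsW) hhW
      · exact ⟨2 ^ c'', by rw [← sq, ← pow_mul, ← pow_succ', e]⟩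
    -- `t s` is conjugate to `s`
    have hsinv : s⁻¹ = s := inv_eq_of_mul_eq_one_right hs2
    have hsrange : (⟨s, hs⟩ : KOf a ω) ∉ H.phi.range := by
      rintro ⟨⟨z, hz⟩, he⟩
      have he' : z⁻¹ * (t * z * t) = s := congrArg Subtype.val he
      have h1 : t * z * t = z * s := inv_mul_eq_iff_eq_mul.1 he'
      have h2 := hc hz
      rw [h1, mul_assoc, H.K_comm hs hz, ← mul_assoc] at h2
      have h3 : z * z ∈ W := by
        have := mul_mem h2 hsW
        rwa [mul_assoc _ s s, hs2, mul_one] at this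
      have hzt : t * z = z * t := by
        by_cases hzW : z ∈ W
        · exact htW hzW
        have hw := hsame hh0 hz hh0W hzW (hsqW hh0 hth0) h3
        calc t * z = t * h0 * (h0⁻¹ * z) := by group
          _ = h0 * t * (h0⁻¹ * z) := by rw [hth0]
          _ = h0 * ((h0⁻¹ * z) * t) := by rw [mul_assoc, htW hw]
          _ = _ := by group
      apply hs1
      rw [← he', hzt, mul_assoc z, H.t_sq, mul_one, inv_mul_cancel]
    have htsI : FixInv (t * s) Ω := hfixinv ⟨s, hs⟩ (H.mem_psi_ker.2 (by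
      show t * s * t = s⁻¹
      rw [hst, mul_assoc, H.t_sq, mul_one, hsinv])) hsrange
    obtain ⟨hts2, hts1, p, -, -, hp, -⟩ := htsI
    obtain ⟨u, hu, hup⟩ := H.exists_mem_zpowers p
    have htu : t * u = u * t := Hyp.comm_zpowers Hyp.t_mem hu
    have huts : u * s * u⁻¹ = t * s := by
      refine H.fix_pair_unique (by
          rw [show u * s * u⁻¹ * (u * s * u⁻¹) = u * (s * s) * u⁻¹ by group, hs2]; group)
        hts2 (fun e => hs1 (conj_eq_one_iff.1 e)) hts1 (H.t_ne p).symm ?_ ?_ hp ?_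
      · rw [← hup, mul_smul, inv_smul_smul, mul_smul, hsω]
      · rw [← hup, ← mul_smul t u, htu, mul_smul u t, mul_smul, inv_smul_smul, mul_smul, hsη]
      · rw [← mul_smul, show t * s * t = t * (t * s) by rw [mul_assoc, ← hst], mul_smul, hp]
    set g := u * h * u⁻¹ with hg
    have hgt : t * g = g * t := by
      have e : u⁻¹ * t = t * u⁻¹ := Hyp.comm_zpowers (inv_mem hu) Hyp.t_mem
      rw [hg, ← mul_assoc, ← mul_assoc, htu, mul_assoc u t h, hth, mul_assoc (u * h),
        e, ← mul_assoc u h t]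
      group
    have hgs : g ∈ Hs := by
      have h1 : g * (t * s) = t * s * g := by
        rw [hg, ← huts]
        calc u * h * u⁻¹ * (u * s * u⁻¹) = u * (h * s) * u⁻¹ := by group
          _ = u * (s * h) * u⁻¹ := by rw [H.K_comm hh hs]
          _ = _ := by group
      have es : s = t * (t * s) := by rw [← mul_assoc, H.t_sq, one_mul]
      refine memHs.2 ?_
      rw [es, ← mul_assoc, ← hgt, mul_assoc t g, h1]
      group
    obtain ⟨x, hxA, hxω⟩ := H.exists_mem_zpowers (g • ω)
    have hxfix : s • x • ω = x • ω := by rw [hxω]; exact hHsfix hgs hsω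
    have hxHs : x ∈ Hs := (hA x hxA).2 hxfix
    have hxt : t * x = x * t := Hyp.comm_zpowers Hyp.t_mem hxA
    set y := x⁻¹ * g with hy
    have hyω : y • ω = ω := by rw [hy, mul_smul, ← hxω, inv_smul_smul]
    have hyt : t * y = y * t := by
      rw [hy, ← mul_assoc, Hyp.comm_zpowers Hyp.t_mem (inv_mem hxA), mul_assoc, hgt, ← mul_assoc]
    have hyK : y ∈ KOf a ω := mem_KOf.2 ⟨hyω, by rw [← mul_smul, ← hyt, mul_smul, hyω]⟩
    have hgxy : g = x * y := (mul_inv_cancel_left x g).symm
    by_cases hyW : y ∈ W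
    · apply hhW
      have hga : g * a0 = a0 * g := by
        rw [hgxy, mul_assoc, ← hWc ha0mem.2 hyW, ← mul_assoc,
          Hyp.comm_zpowers hxA ha0mem.1, mul_assoc]
      have hha : h * a0 = a0 * h := by
        have e1 : u⁻¹ * a0 = a0 * u⁻¹ := Hyp.comm_zpowers (inv_mem hu) ha0mem.1
        have e2 : u * a0 = a0 * u := Hyp.comm_zpowers hu ha0mem.1
        have eh : h = u⁻¹ * g * u := by rw [hg]; group
        rw [eh, mul_assoc, e2, ← mul_assoc, mul_assoc u⁻¹ g, hga, ← mul_assoc u⁻¹, e1]
        group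
      refine hWmem.2 ⟨hKHs hh, fun q hq => ?_⟩
      obtain ⟨z, hz, rfl⟩ := H.exists_mem_zpowers q
      have hz0 : z ∈ zpowers a0 := hA0eq ▸ (⟨hz, (hA z hz).2 hq⟩ : z ∈ A0)
      obtain ⟨i, rfl⟩ := mem_zpowers_iff.1 hz0
      rw [← mul_smul, (Commute.zpow_right hha i).eq, mul_smul, (mem_KOf.1 hh).1]
    · have hy2 : y * y ∈ W := hsqW hyK hyt
      suffices hg2 : g * g ∈ W by
        have e1 : u * (h * h) * u⁻¹ = g * g := by rw [hg]; group
        have e2 : (g * g) ^ j = t * s := by
          rw [← e1, conj_pow, hj, huts]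
        have e3 : t * s ∈ W := e2 ▸ pow_mem hg2 j
        rcases H.K_invol_unique (hWK e3) hs hts2 hs2 hs1 with e | e
        · exact hts1 e
        · exact H.t_ne_one (mul_eq_right.1 e)
      set δ := x • ω with hδ
      have hgxy2 : x * y = y * x → x * x = 1 → g * g ∈ W := fun hcm hx2 => by
        have e : g * g = x * x * (y * y) := by
          calc g * g = x * (y * x) * y := by rw [hy]; group
            _ = x * (x * y) * y := by rw [hcm]
            _ = _ := by group
        rw [e, hx2, one_mul]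
        exact hy2
      by_cases hδω : δ = ω
      · have : x = 1 := H.eq_one_of_fix hxA (x := ω) hδω
        exact hgxy2 (by rw [this, one_mul, mul_one]) (by rw [this, one_mul])
      by_cases hδη : δ = t • ω
      · have hxt' : x = t := H.eq_of_smul_eq hxA Hyp.t_mem (x := ω) hδη
        exact hgxy2 (by rw [hxt', hyt]) (by rw [hxt', H.t_sq])
      -- the element swapping `ω` and `δ` and sending `η` to `t δ`
      have htδfix : s • t • δ = t • δ := hHsfix htHs hxfix
      have htδω : t • δ ≠ ω := fun e => hδη (by rw [← e, H.t_smul_smul])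
      have hswap : ∀ {i : G}, i ∈ Hs → i • ω = δ → i • δ = ω → i * i ∈ W := by
        intro i hi hiω hiδ
        obtain ⟨g1, hg1, hg1ω, hg1η⟩ := hpairHs hsω hsη hsω hxfix (H.t_ne ω).symm (Ne.symm hδω)
        set i' := g1⁻¹ * i * g1 with hi'
        have hg1' : g1⁻¹ • δ = t • ω := inv_smul_eq_iff.2 hg1η.symm
        have h1 : i' • ω = t • ω := by rw [hi', mul_smul, mul_smul, hg1ω, hiω, hg1']
        have h2 : i' • t • ω = ω := by
          rw [hi', mul_smul, mul_smul, hg1η, hiδ, inv_smul_eq_iff, hg1ω]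
        have hyk : t * i' ∈ KOf a ω := mem_KOf.2
          ⟨by rw [mul_smul, h1, H.t_smul_smul], by rw [mul_smul, h2]⟩
        have h3 := hc hyk
        rw [← mul_assoc t t, H.t_sq, one_mul, mul_assoc i' t, ← mul_assoc t t, H.t_sq,
          one_mul] at h3
        have h4 := hWnorm hg1 h3
        rwa [show g1 * (i' * i') * g1⁻¹ = i * i by rw [hi']; group] at h4
      obtain ⟨h1', hh1', h1ω, h1δ⟩ := hpairHs hsω hxfix hxfix hsω (Ne.symm hδω) hδω
      obtain ⟨g1, hg1, hg1ω, hg1δ⟩ :=
        hpairHs hsω hsη hxfix hsω (H.t_ne ω).symm hδω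
      have htrK : ∀ {q q' : Ω}, s • q = q → q ≠ ω → q ≠ t • ω → s • q' = q' → q' ≠ ω →
          q' ≠ t • ω → ∃ z ∈ KOf a ω, z • q = q' := by
        intro q q' hq hqω hqη hq' hq'ω hq'η
        let R := {z : fixedBy Ω s // z ≠ ω' ∧ z ≠ η'}
        let F : KOf a' ω' → R := fun z => ⟨(z : X) • (⟨q, hq⟩ : fixedBy Ω s), by
          have h1 := (mem_KOf.1 z.2).1
          have h2 := (mem_KOf.1 z.2).2
          rw [ht'] at h2
          exact ⟨fun e => hqω (congrArg Subtype.val (MulAction.injective (z : X) (e.trans h1.symm))),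
            fun e => hqη (congrArg Subtype.val (MulAction.injective (z : X) (e.trans h2.symm)))⟩⟩
        have hF : Function.Injective F := fun z z' e => by
          have e1 := hsemi' _ (mul_mem (inv_mem z'.2) z.2) ⟨q, hq⟩
            (fun e => hqω (congrArg Subtype.val e))
            (fun e => hqη (by rw [ht'] at e; exact congrArg Subtype.val e))
            (by rw [mul_smul, inv_smul_eq_iff]; exact congrArg Subtype.val e)
          exact Subtype.ext (inv_mul_eq_one.1 e1).symm
        have hRcard : Nat.card R = D - 2 := by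
          show Nat.card ↥{z : fixedBy Ω s | z ≠ ω' ∧ z ≠ η'} = D - 2
          rw [Nat.card_coe_set_eq,
            show {z : fixedBy Ω s | z ≠ ω' ∧ z ≠ η'} = {ω', η'}ᶜ by ext z; simp,
            Set.ncard_compl, hcardΔ,
            Set.ncard_pair (fun e => H.t_ne ω (congrArg Subtype.val e).symm)]
        obtain ⟨z, hz⟩ := ((Nat.bijective_iff_injective_and_card F).2 ⟨hF, hK'.trans hRcard.symm⟩).2
          ⟨⟨q', hq'⟩, fun e => hq'ω (congrArg Subtype.val e),
            fun e => hq'η (congrArg Subtype.val e)⟩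
        obtain ⟨hh', hr'⟩ := r_surj (z : X)
        refine ⟨hh', (hK'mem hh').1 (hr'.symm ▸ z.2), ?_⟩
        have := congrArg (fun w : R => w.1.1) hz
        simp only [F] at this
        rw [← hr'] at this
        exact this
      have hεfix : s • h1' • t • ω = h1' • t • ω := hHsfix hh1' hsη
      have hεδ : h1' • t • ω ≠ δ := fun e => H.t_ne ω (MulAction.injective h1' (e.trans h1ω.symm))
      have hεω : h1' • t • ω ≠ ω := fun e =>
        hδη (MulAction.injective h1' (h1δ.trans e.symm))
      obtain ⟨z, hz, hzq⟩ := htrK (q := g1⁻¹ • h1' • t • ω) (q' := g1⁻¹ • t • δ)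
        (hHsfix (inv_mem hg1) hεfix)
        (fun e => hεδ (by rw [inv_smul_eq_iff] at e; rw [e, hg1ω]))
        (fun e => hεω (by rw [inv_smul_eq_iff] at e; rw [e, hg1δ]))
        (hHsfix (inv_mem hg1) htδfix)
        (fun e => H.t_ne δ (by rw [inv_smul_eq_iff] at e; rw [e, hg1ω]))
        (fun e => htδω (by rw [inv_smul_eq_iff] at e; rw [e, hg1δ]))
      set i := g1 * z * g1⁻¹ * h1' with hi
      have hiH : i ∈ Hs := mul_mem (mul_mem (mul_mem hg1 (hKHs hz)) (inv_mem hg1)) hh1'
      have hiω : i • ω = δ := by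
        rw [hi, mul_smul, h1ω, mul_smul, inv_smul_eq_iff.2 hg1ω.symm, mul_smul,
          (mem_KOf.1 hz).1, hg1ω]
      have hiδ : i • δ = ω := by
        rw [hi, mul_smul, h1δ, mul_smul, inv_smul_eq_iff.2 hg1δ.symm, mul_smul,
          (mem_KOf.1 hz).2, hg1δ]
      have hiη : i • t • ω = t • δ := by
        rw [hi, mul_smul, mul_smul, mul_smul, hzq, smul_inv_smul]
      have hi2 := hswap hiH hiω hiδ
      have hitδ : i • t • δ = t • ω := by
        rw [← hiη, ← mul_smul]
        exact (hWmem.1 hi2).2 _ hsη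
      have hjH : i⁻¹ * (t * i * t) ∈ Hs := mul_mem (inv_mem hiH) (mul_mem (mul_mem htHs hiH) htHs)
      have hjK : i⁻¹ * (t * i * t) ∈ KOf a ω := mem_KOf.2
        ⟨by rw [mul_smul, mul_smul, mul_smul, hiη, H.t_smul_smul, inv_smul_eq_iff, hiω],
          by rw [mul_smul, mul_smul, mul_smul, H.t_smul_smul, hiω, inv_smul_eq_iff, hiη]⟩
      have hjW : i⁻¹ * (t * i * t) ∈ W := hb hjK hxfix hδω hδη
        (by rw [mul_smul, mul_smul, mul_smul, hitδ, H.t_smul_smul, inv_smul_eq_iff, hiδ])
      set y'' := x⁻¹ * i with hy''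
      have hy''K : y'' ∈ KOf a ω := mem_KOf.2
        ⟨by rw [hy'', mul_smul, hiω, inv_smul_eq_iff],
          by rw [hy'', mul_smul, hiη, inv_smul_eq_iff, hδ, ← mul_smul, ← mul_smul, hxt]⟩
      have hxiy : i = x * y'' := (mul_inv_cancel_left x i).symm
      have hy''t : t * y'' * t = y'' * (i⁻¹ * (t * i * t)) := by
        rw [hy'', ← mul_assoc t, ht, Hyp.comm_zpowers Hyp.t_mem (inv_mem hxA)]
        group
      have hy''2 : y'' * y'' ∈ W := by
        have h2 := hc hy''K
        rw [hy''t, mul_assoc y'', ← hWc (hKHs hy''K) hjW, ← mul_assoc] at h2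
        have := mul_mem h2 (inv_mem hjW)
        rwa [mul_inv_cancel_right] at this
      have hy''W : y'' ∉ W := fun hw => by
        have hx2 : x * x ∈ W := by
          have e : i * i = x * x * (y'' * y'') := by
            rw [hxiy, show x * y'' * (x * y'') = x * (y'' * x) * y'' by group, ← hWc hxHs hw]
            group
          have := mul_mem hi2 (inv_mem hy''2)
          rwa [e, mul_inv_cancel_right] at this
        have hx2' : x * x = 1 := H.eq_one_of_fix (mul_mem hxA hxA) ((hWmem.1 hx2).2 ω hsω)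
        have hx1 : x ≠ 1 := fun e => hδω (by rw [hδ, e, one_smul])
        have hxt' : x = t := by
          haveI : IsCyclic (zpowers a) := inferInstance
          have h2x : orderOf (⟨x, hxA⟩ : zpowers a) = 2 :=
            orderOf_eq_prime (Subtype.ext (by rw [sq]; exact hx2'))
              (fun e => hx1 (congrArg Subtype.val e))
          have h2t : orderOf (⟨t, Hyp.t_mem⟩ : zpowers a) = 2 :=
            orderOf_eq_prime (Subtype.ext (by rw [sq]; exact H.t_sq))
              (fun e => H.t_ne_one (congrArg Subtype.val e))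
          obtain ⟨i0, hi0⟩ := mem_zpowers_iff.1
            (mem_zpowers_of_orderOf_eq (x := (⟨t, Hyp.t_mem⟩ : zpowers a))
              (z := ⟨x, hxA⟩) (h2x.trans h2t.symm))
          have e : t ^ i0 = x := congrArg Subtype.val hi0
          rcases Int.even_or_odd i0 with ⟨k, hk⟩ | ⟨k, hk⟩
          · rw [hk, ← two_mul, zpow_mul, zpow_two, H.t_sq, one_zpow] at e
            exact absurd e.symm hx1
          · rw [hk, zpow_add, zpow_mul, zpow_two, H.t_sq, one_zpow, one_mul, zpow_one] at e
            exact e.symm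
        exact hδη (by rw [hδ, hxt'])
      have hw := hsame hy''K hyK hy''W hyW hy''2 hy2
      have hgi : g = i * (y''⁻¹ * y) := by rw [hgxy, hxiy]; group
      rw [hgi, show i * (y''⁻¹ * y) * (i * (y''⁻¹ * y)) =
        i * (y''⁻¹ * y * i) * (y''⁻¹ * y) by group, ← hWc hiH hw, ← mul_assoc i i,
        mul_assoc (i * i)]
      exact mul_mem hi2 (mul_mem hw hw)

end CfsgLib.CyclicZ
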