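import Mathlib.GroupTheory.SpecificGroups.ZGroup
import Mathlib.GroupTheory.GroupAction.MultipleTransitivity
import Mathlib.GroupTheory.Perm.Cycle.Basic
import Mathlib.GroupTheory.Perm.Sign

/-!
# Doubly transitive groups with a regular cyclic subgroup and Z-group stabilisers: basics

`a` generates a regular cyclic subgroup, `t` is its involution, `η = t • ω`, and `K` is the
stabiliser of `ω` and `η`.
-/

set_option autoImplicit false
set_option linter.unusedSectionVars false
set_option linter.style.haveILetI false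

namespace CfsgLib.CyclicZ

open MulAction Subgroup
open scoped commutatorElement IsMulCommutative

universe u

variable {G : Type u} [Group G] {Ω : Type u} [MulAction G Ω]

/-- The hypotheses. -/
structure Hyp (a : G) (ω : Ω) : Prop where
  faithful : FaithfulSMul G Ω
  two : IsMultiplyPretransitive G Ω 2
  bij : Function.Bijective fun x : zpowers a => x • ω
  zgroup : IsZGroup (stabilizer G ω)
  even : Even (Nat.card Ω)
  big : 2 < Nat.card Ω

variable [Finite G] [Finite Ω] {a : G} {ω : Ω}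

/-- The involution of the regular cyclic subgroup. -/
noncomputable def tOf (a : G) (Ω : Type u) : G := a ^ (Nat.card Ω / 2)

namespace Hyp

variable (H : Hyp a ω)

include H

theorem eq_one_of_smul_eq_self {g : G} (h : ∀ x : Ω, g • x = x) : g = 1 := by
  haveI := H.faithful
  exact FaithfulSMul.eq_of_smul_eq_smul (α := Ω) fun x => by rw [one_smul]; exact h x

theorem orderOf_a : orderOf a = Nat.card Ω := by
  rw [← Nat.card_zpowers]
  exact Nat.card_eq_of_bijective _ H.bij

theorem exists_mem_zpowers (x : Ω) : ∃ g ∈ zpowers a, g • ω = x := by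
  obtain ⟨⟨g, hg⟩, h⟩ := H.bij.2 x
  exact ⟨g, hg, h⟩

omit H in
theorem comm_zpowers {x y : G} (hx : x ∈ zpowers a) (hy : y ∈ zpowers a) : x * y = y * x := by
  obtain ⟨i, rfl⟩ := mem_zpowers_iff.1 hx
  obtain ⟨j, rfl⟩ := mem_zpowers_iff.1 hy
  rw [← zpow_add, ← zpow_add, add_comm]

theorem eq_one_of_fix {g : G} (hg : g ∈ zpowers a) {x : Ω} (h : g • x = x) : g = 1 := by
  obtain ⟨k, hk, rfl⟩ := H.exists_mem_zpowers x
  have h2 : g • ω = ω := by
    rw [← mul_smul, comm_zpowers hg hk, mul_smul] at h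
    exact MulAction.injective k h
  exact congrArg Subtype.val (H.bij.1
    (show (⟨g, hg⟩ : zpowers a) • ω = (1 : zpowers a) • ω by
      rw [one_smul]; exact h2))

theorem eq_of_smul_eq {g k : G} (hg : g ∈ zpowers a) (hk : k ∈ zpowers a) {x : Ω}
    (h : g • x = k • x) : g = k :=
  (inv_mul_eq_one.1 (H.eq_one_of_fix (mul_mem (inv_mem hk) hg) (x := x)
    (by rw [mul_smul, h, inv_smul_smul]))).symm

omit H in
theorem t_mem : tOf a Ω ∈ zpowers a := pow_mem (mem_zpowers a) _

theorem t_sq : tOf a Ω * tOf a Ω = 1 := by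
  obtain ⟨m, hm⟩ := H.even
  rw [tOf, ← pow_add, hm, show (m + m) / 2 + (m + m) / 2 = m + m by omega, ← hm, ← H.orderOf_a,
    pow_orderOf_eq_one]

theorem t_inv : (tOf a Ω)⁻¹ = tOf a Ω := inv_eq_of_mul_eq_one_right H.t_sq

theorem t_ne_one : tOf a Ω ≠ 1 := by
  intro h
  obtain ⟨m, hm⟩ := H.even
  have h1 := orderOf_dvd_of_pow_eq_one (x := a) h
  have := H.big
  rw [H.orderOf_a] at h1
  have h2 := Nat.le_of_dvd (by omega) h1
  omega

theorem t_ne (x : Ω) : tOf a Ω • x ≠ x := fun h => H.t_ne_one (H.eq_one_of_fix t_mem h)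

theorem t_smul_smul (x : Ω) : tOf a Ω • tOf a Ω • x = x := by
  rw [← mul_smul, H.t_sq, one_smul]

theorem pair {x y x' y' : Ω} (h : x ≠ y) (h' : x' ≠ y') : ∃ g : G, g • x = x' ∧ g • y = y' :=
  (is_two_pretransitive_iff.1 H.two) h h'

theorem trans : IsPretransitive G Ω := by
  haveI := H.two
  exact isPretransitive_of_is_two_pretransitive

end Hyp

/-- The stabiliser of the two base points. -/
noncomputable def KOf (a : G) (ω : Ω) : Subgroup G :=
  stabilizer G ω ⊓ stabilizer G (tOf a Ω • ω)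

theorem mem_KOf {g : G} : g ∈ KOf a ω ↔ g • ω = ω ∧ g • tOf a Ω • ω = tOf a Ω • ω := Iff.rfl

namespace Hyp

variable (H : Hyp a ω)

include H

theorem t_conj_K {y : G} (hy : y ∈ KOf a ω) : tOf a Ω * y * tOf a Ω ∈ KOf a ω := by
  obtain ⟨h1, h2⟩ := mem_KOf.1 hy
  refine mem_KOf.2 ⟨?_, ?_⟩
  · rw [mul_smul, mul_smul, h2, H.t_smul_smul]
  · rw [mul_smul, mul_smul, H.t_smul_smul, h1]

/-- The commutator subgroup of the stabiliser acts semiregularly. -/
theorem commutator_semiregular {x : G} (hx : x ∈ ⁅stabilizer G ω, stabilizer G ω⁆) {y : Ω}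
    (hy : y ≠ ω) (h : x • y = y) : x = 1 := by
  haveI := H.zgroup
  have hcyc : IsCyclic ↥(⁅stabilizer G ω, stabilizer G ω⁆) := by
    have h1 := IsZGroup.isCyclic_commutator (stabilizer G ω)
    have e := (commutator (stabilizer G ω)).equivMapOfInjective (stabilizer G ω).subtype
      (stabilizer G ω).subtype_injective
    rw [Subgroup.map_subtype_commutator] at e
    exact isCyclic_of_surjective e e.surjective
  have hxB : x • ω = ω := Subgroup.commutator_le_self _ hx
  refine H.eq_one_of_smul_eq_self fun z => ?_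
  rcases eq_or_ne z ω with rfl | hz
  · exact hxB
  obtain ⟨b, hb, hby⟩ := H.pair hy.symm hz.symm
  -- `b⁻¹ x b` has the order of `x`, so it is a power of `x`
  have hc : b⁻¹ * x * b ∈ ⁅stabilizer G ω, stabilizer G ω⁆ := by
    have hn : b⁻¹ ∈ stabilizer G ω := inv_mem (show b ∈ stabilizer G ω from hb)
    have := (Subgroup.commutator_le.2 fun p hp q hq => ?_ :
      ⁅stabilizer G ω, stabilizer G ω⁆ ≤
        (⁅stabilizer G ω, stabilizer G ω⁆).comap (MulAut.conj b⁻¹).toMonoidHom) hx
    · simpa using this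
    · rw [Subgroup.mem_comap, map_commutatorElement]
      exact commutator_mem_commutator
        (mul_mem (mul_mem hn hp) (inv_mem hn)) (mul_mem (mul_mem hn hq) (inv_mem hn))
  set S := ⁅stabilizer G ω, stabilizer G ω⁆
  have hord : orderOf (⟨b⁻¹ * x * b, hc⟩ : S) = orderOf (⟨x, hx⟩ : S) := by
    rw [← Subgroup.orderOf_coe, ← Subgroup.orderOf_coe]
    have : b⁻¹ * x * b = MulAut.conj b⁻¹ x := by simp
    show orderOf (b⁻¹ * x * b) = orderOf x
    rw [this]
    exact MulEquiv.orderOf_eq _ x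
  have hmem : (⟨b⁻¹ * x * b, hc⟩ : S) ∈ zpowers (⟨x, hx⟩ : S) := by
    classical
    haveI := Fintype.ofFinite S
    by_contra hne
    -- more roots of `X ^ orderOf x = 1` than allowed
    have h1 : (Finset.univ.filter fun z : S => z ^ orderOf (⟨x, hx⟩ : S) = 1).card ≤
        orderOf (⟨x, hx⟩ : S) := IsCyclic.card_pow_eq_one_le (orderOf_pos _)
    have h2 : insert (⟨b⁻¹ * x * b, hc⟩ : S)
        (Finset.univ.filter fun z : S => z ∈ zpowers (⟨x, hx⟩ : S)) ⊆
        Finset.univ.filter fun z : S => z ^ orderOf (⟨x, hx⟩ : S) = 1 := by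
      intro z hz
      simp only [Finset.mem_insert, Finset.mem_filter, Finset.mem_univ, true_and] at hz ⊢
      rcases hz with rfl | hz
      · rw [← hord, pow_orderOf_eq_one]
      · exact orderOf_dvd_iff_pow_eq_one.1 (orderOf_dvd_of_mem_zpowers hz)
    have h3 := Finset.card_le_card h2
    rw [Finset.card_insert_of_notMem (by simpa using hne)] at h3
    have h4 : (Finset.univ.filter fun z : S => z ∈ zpowers (⟨x, hx⟩ : S)).card =
        orderOf (⟨x, hx⟩ : S) := by
      rw [← Nat.card_zpowers, Nat.card_eq_fintype_card]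
      exact (Fintype.card_subtype _).symm
    omega
  obtain ⟨i, hi⟩ := mem_zpowers_iff.1 hmem
  have hi' : x ^ i = b⁻¹ * x * b := congrArg Subtype.val hi
  have hfix : (x ^ i) • y = y :=
    mem_stabilizer_iff.1 (zpow_mem (show x ∈ stabilizer G y from h) i)
  rw [hi', mul_smul, mul_smul, hby, inv_smul_eq_iff, hby] at hfix
  exact hfix

/-- The stabiliser of two points is cyclic. -/
theorem K_isCyclic : IsCyclic (KOf a ω) := by
  haveI := H.zgroup
  haveI : IsZGroup (KOf a ω) :=
    IsZGroup.of_injective (f := Subgroup.inclusion (inf_le_left : KOf a ω ≤ stabilizer G ω))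
      (Subgroup.inclusion_injective _)
  haveI : IsMulCommutative (KOf a ω) := ⟨⟨fun p q => by
    have hfix : ∀ r : KOf a ω, (r : G) • tOf a Ω • ω = tOf a Ω • ω := fun r => (mem_KOf.1 r.2).2
    have h1 := H.commutator_semiregular (commutator_mem_commutator
      (mem_inf.1 p.2).1 (mem_inf.1 q.2).1) (H.t_ne ω) (by
        have : (⁅(p : G), (q : G)⁆) ∈ stabilizer G (tOf a Ω • ω) := by
          rw [commutatorElement_def]
          exact mul_mem (mul_mem (mul_mem (mem_inf.1 p.2).2 (mem_inf.1 q.2).2)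
            (inv_mem (mem_inf.1 p.2).2)) (inv_mem (mem_inf.1 q.2).2)
        exact this)
    exact Subtype.ext (commutatorElement_eq_one_iff_mul_comm.1 h1)⟩⟩
  haveI : Group.IsNilpotent (KOf a ω) :=
    @CommGroup.isNilpotent _ (IsMulCommutative.instCommGroup : CommGroup (KOf a ω))
  infer_instance

theorem K_comm {x y : G} (hx : x ∈ KOf a ω) (hy : y ∈ KOf a ω) : x * y = y * x := by
  haveI := H.K_isCyclic
  exact congrArg Subtype.val ((inferInstance : IsCyclic (KOf a ω)).isMulCommutative.is_comm.comm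
    (⟨x, hx⟩ : KOf a ω) ⟨y, hy⟩)

/-- The permutation of the generator is odd. -/
theorem sign_a [Fintype Ω] [DecidableEq Ω] : Equiv.Perm.sign (MulAction.toPermHom G Ω a) = -1 := by
  have ha : ∀ x : Ω, a • x ≠ x := fun x h => by
    have h1 := H.eq_one_of_fix (mem_zpowers a) h
    have h2 := H.orderOf_a
    rw [h1, orderOf_one] at h2
    have := H.big
    omega
  have hc : (MulAction.toPermHom G Ω a).IsCycle := by
    refine ⟨ω, ha ω, fun y _ => ?_⟩
    obtain ⟨g, hg, rfl⟩ := H.exists_mem_zpowers y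
    obtain ⟨i, rfl⟩ := mem_zpowers_iff.1 hg
    exact ⟨i, by rw [← map_zpow]; rfl⟩
  rw [hc.sign]
  have : (MulAction.toPermHom G Ω a).support = Finset.univ :=
    Finset.eq_univ_of_forall fun x => Equiv.Perm.mem_support.2 (ha x)
  rw [this, Finset.card_univ, ← Nat.card_eq_fintype_card]
  obtain ⟨m, hm⟩ := H.even
  rw [hm, Even.neg_one_pow ⟨m, rfl⟩]

theorem card_stabilizer :
    Nat.card (stabilizer G ω) = Nat.card (KOf a ω) * (Nat.card Ω - 1) := by
  classical
  haveI := Fintype.ofFinite Ω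
  have horb : MulAction.orbit (stabilizer G ω) (tOf a Ω • ω) = {x : Ω | x ≠ ω} := by
    ext x
    constructor
    · rintro ⟨g, rfl⟩ h
      exact H.t_ne ω (MulAction.injective (g : G) (h.trans (g.2 : (g : G) • ω = ω).symm))
    · intro hx
      obtain ⟨g, hg1, hg2⟩ := H.pair (H.t_ne ω).symm (Ne.symm hx : ω ≠ x)
      exact ⟨⟨g, hg1⟩, hg2⟩
  have h1 := Subgroup.card_mul_index (stabilizer (stabilizer G ω) (tOf a Ω • ω))
  rw [MulAction.index_stabilizer, horb] at h1
  have h2 : Nat.card (stabilizer (stabilizer G ω) (tOf a Ω • ω)) = Nat.card (KOf a ω) :=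
    Nat.card_congr
      { toFun := fun z => ⟨(z.1 : G), mem_inf.2 ⟨z.1.2, z.2⟩⟩
        invFun := fun z => ⟨⟨z.1, (mem_inf.1 z.2).1⟩, (mem_inf.1 z.2).2⟩
        left_inv := fun _ => rfl
        right_inv := fun _ => rfl }
  have h3 : ({x : Ω | x ≠ ω} : Set Ω).ncard = Nat.card Ω - 1 := by
    rw [show ({x : Ω | x ≠ ω} : Set Ω) = {ω}ᶜ from rfl, Set.ncard_compl,
      Set.ncard_singleton]
  rw [← h1, h2, h3]

theorem card_K_pos : 0 < Nat.card (KOf a ω) := Nat.card_pos

/-- The stabiliser of two points contains an involution. -/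
theorem exists_involution : ∃ s ∈ KOf a ω, s * s = 1 ∧ s ≠ 1 := by
  classical
  haveI := Fintype.ofFinite Ω
  haveI := Fact.mk Nat.prime_two
  suffices h : 2 ∣ Nat.card (KOf a ω) by
    obtain ⟨⟨s, hs⟩, hs2⟩ := exists_prime_orderOf_dvd_card' 2 h
    have h1 := pow_orderOf_eq_one (⟨s, hs⟩ : KOf a ω)
    rw [hs2, sq] at h1
    refine ⟨s, hs, congrArg Subtype.val h1, fun h => ?_⟩
    subst h
    exact absurd (orderOf_one.symm.trans hs2) (by decide)
  obtain ⟨m, hm⟩ := H.even
  have hbig := H.big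
  suffices h : 2 ∣ Nat.card (stabilizer G ω) by
    rw [H.card_stabilizer] at h
    refine (Nat.Coprime.dvd_of_dvd_mul_right ?_ h)
    rw [Nat.prime_two.coprime_iff_not_dvd]
    omega
  by_contra hodd
  let φ : G →* ℤˣ := Equiv.Perm.sign.comp (MulAction.toPermHom G Ω)
  have hle : stabilizer G ω ≤ φ.ker := fun g hg => by
    have h1 : (φ g) ^ Nat.card (stabilizer G ω) = 1 := by
      rw [← map_pow]
      have := congrArg Subtype.val (pow_card_eq_one' (x := (⟨g, hg⟩ : stabilizer G ω)))
      simp only [SubmonoidClass.coe_pow, OneMemClass.coe_one] at this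
      rw [this, map_one]
    rw [MonoidHom.mem_ker]
    rcases Int.units_eq_one_or (φ g) with h | h
    · exact h
    · rw [h, (Nat.odd_iff.2 (by omega)).neg_one_pow] at h1
      exact absurd h1 (by decide)
  haveI : Nontrivial Ω := Finite.one_lt_card_iff_nontrivial.1 (by omega)
  haveI := isPreprimitive_of_is_two_pretransitive H.two
  have hmax := MulAction.IsPreprimitive.isCoatom_stabilizer_of_isPreprimitive (G := G) (X := Ω) ω
  haveI := H.trans
  rcases hmax.le_iff.1 hle with h | h
  · have : a ∈ φ.ker := h ▸ Subgroup.mem_top a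
    rw [MonoidHom.mem_ker] at this
    exact absurd ((H.sign_a).symm.trans this) (by decide)
  · have hbot : stabilizer G ω = ⊥ := by
      refine (Subgroup.eq_bot_iff_forall _).2 fun g hg => H.eq_one_of_smul_eq_self fun x => ?_
      obtain ⟨k, rfl⟩ := exists_smul_eq G ω x
      have hn : φ.ker.Normal := φ.normal_ker
      have := hn.conj_mem g (h ▸ hg) k⁻¹
      rw [h, inv_inv, mem_stabilizer_iff, mul_smul, mul_smul, inv_smul_eq_iff] at this
      exact this
    have h1 := H.card_stabilizer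
    rw [hbot, Subgroup.card_bot] at h1
    have := Nat.mul_le_mul_right (Nat.card Ω - 1) H.card_K_pos
    omega

/-- An element of `K` squaring to one is trivial or the involution. -/
theorem K_invol_unique {x s : G} (hx : x ∈ KOf a ω) (hs : s ∈ KOf a ω) (hx2 : x * x = 1)
    (hs2 : s * s = 1) (hs1 : s ≠ 1) : x = 1 ∨ x = s := by
  classical
  haveI := H.K_isCyclic
  haveI := Fintype.ofFinite (KOf a ω)
  by_contra! h
  have h1 : (Finset.univ.filter fun z : KOf a ω => z ^ 2 = 1).card ≤ 2 :=
    IsCyclic.card_pow_eq_one_le (by norm_num)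
  have h2 : ({1, ⟨x, hx⟩, ⟨s, hs⟩} : Finset (KOf a ω)) ⊆
      Finset.univ.filter fun z : KOf a ω => z ^ 2 = 1 := by
    intro z hz
    simp only [Finset.mem_insert, Finset.mem_singleton] at hz
    refine Finset.mem_filter.2 ⟨Finset.mem_univ _, ?_⟩
    rw [sq]
    rcases hz with rfl | rfl | rfl
    · exact one_mul 1
    · exact Subtype.ext hx2
    · exact Subtype.ext hs2
  have h3 := Finset.card_le_card h2
  have h4 : ({1, ⟨x, hx⟩, ⟨s, hs⟩} : Finset (KOf a ω)).card = 3 := by
    refine Finset.card_eq_three.2 ⟨_, _, _, ?_, ?_, ?_, rfl⟩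
    · exact fun e => h.1 (congrArg Subtype.val e).symm
    · exact fun e => hs1 (congrArg Subtype.val e).symm
    · exact fun e => h.2 (congrArg Subtype.val e)
  omega

/-- Two involutions with two common fixed points are equal. -/
theorem fix_pair_unique {x y : G} (hx2 : x * x = 1) (hy2 : y * y = 1) (hx1 : x ≠ 1) (hy1 : y ≠ 1)
    {p q : Ω} (hpq : p ≠ q) (hxp : x • p = p) (hxq : x • q = q) (hyp : y • p = p)
    (hyq : y • q = q) : x = y := by
  obtain ⟨g, hgp, hgq⟩ := H.pair hpq (H.t_ne ω).symm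
  have hmem : ∀ z : G, z • p = p → z • q = q → g * z * g⁻¹ ∈ KOf a ω := fun z h1 h2 =>
    mem_KOf.2 ⟨by rw [← hgp, mul_smul, mul_smul, inv_smul_smul, h1],
      by rw [← hgq, mul_smul, mul_smul, inv_smul_smul, h2]⟩
  have hsq : ∀ z : G, z * z = 1 → g * z * g⁻¹ * (g * z * g⁻¹) = 1 := fun z hz => by
    rw [show g * z * g⁻¹ * (g * z * g⁻¹) = g * (z * z) * g⁻¹ by group, hz]
    group
  rcases H.K_invol_unique (hmem x hxp hxq) (hmem y hyp hyq) (hsq x hx2) (hsq y hy2)
      (fun e => hy1 (conj_eq_one_iff.1 e)) with h | h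
  · exact absurd (conj_eq_one_iff.1 h) hx1
  · exact mul_left_cancel (mul_right_cancel h)

end Hyp

end CfsgLib.CyclicZ
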