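import Cfsg.Agent.Perm.CyclicZ.Large
import Cfsg.Agent.Perm.PrimeAddOneMain
import Cfsg.Agent.S2929
import Mathlib.GroupTheory.Sylow

/-!
# `PGL(2, p)` through its action on Sylow subgroups

`Good G p` pins down `PGL(2, p)`. An element normalising such a subgroup induces an inner
automorphism on it.
-/

set_option autoImplicit false
set_option linter.unusedSectionVars false
set_option linter.style.haveILetI false

namespace CfsgLib.CyclicZ

open MulAction Subgroup
open scoped Pointwise

universe u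

/-- The shape of `PGL(2, p)`, `p > 3`. -/
structure Good (G : Type u) [Group G] (p : ℕ) : Prop where
  prime : p.Prime
  three_lt : 3 < p
  card : Nat.card G = (p + 1) * p * (p - 1)
  card_sylow : Nat.card (Sylow p G) = p + 1
  faithful : ∀ g : G, (∀ P : Sylow p G, g • P = P) → g = 1
  four : ∃ s t : G, s * s = 1 ∧ t * t = 1 ∧ s ≠ 1 ∧ t ≠ 1 ∧ s ≠ t ∧ t * s = s * t

variable {G : Type u} [Group G] [Finite G] {Ω : Type u} [MulAction G Ω] [Finite Ω] {a : G} {ω : Ω}

theorem Hyp.good (H : Hyp a ω) (hG : ¬ Group.IsSolvable G) : ∃ p, Good G p := by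
  classical
  haveI := Fintype.ofFinite Ω
  haveI := H.faithful
  haveI := H.trans
  obtain ⟨s, hs, hs2, hs1⟩ := H.exists_involution
  obtain ⟨hp, hK, -, -⟩ := H.dOne hs hs2 hs1 (two_of_hyp (Nat.card G) H le_rfl hs hs2 hs1)
  have hbig := H.big
  haveI : Fact (Nat.card Ω - 1).Prime := ⟨hp⟩
  set p := Nat.card Ω - 1 with hpdef
  have hn : Nat.card Ω = p + 1 := by omega
  have hstab : ∀ γ : Ω, Nat.card (stabilizer G γ) = p * (p - 1) := by
    intro γ
    have h1 := Subgroup.card_mul_index (stabilizer G γ)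
    have h2 := Subgroup.card_mul_index (stabilizer G ω)
    rw [index_stabilizer_of_transitive] at h1 h2
    rw [← h2] at h1
    rw [Nat.eq_of_mul_eq_mul_right (by omega) h1, H.card_stabilizer, hK, mul_comm,
      show Nat.card Ω - 2 = p - 1 by omega]
  have hcard : Nat.card G = (p + 1) * p * (p - 1) := by
    rw [← Subgroup.card_mul_index (stabilizer G ω), index_stabilizer_of_transitive, hstab, hn]
    ring
  have hp3 : 3 < p := by
    by_contra h
    refine hG ?_
    haveI : Group.IsSolvable (alternatingGroup Ω) :=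
      Cfsg.Agent.S2929.isSolvable_alt_of_le_four (by rw [← Nat.card_eq_fintype_card]; omega)
    haveI : Group.IsSolvable (Equiv.Perm Ω) := Group.isSolvable_of_ker_le_range
      (alternatingGroup Ω).subtype (Equiv.Perm.sign : Equiv.Perm Ω →* ℤˣ)
      (by rw [Subgroup.range_subtype]; rfl)
    exact Group.isSolvable_of_isSolvable_injective (f := MulAction.toPermHom G Ω)
      MulAction.toPerm_injective
  have hpndvd : ∀ {k}, k ∣ p - 1 → ¬ p ∣ k := fun hk h => by
    have := Nat.le_of_dvd (by omega) (h.trans hk)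
    omega
  have hPcard : ∀ P : Sylow p G, Nat.card P = p := by
    intro P
    rw [P.card_eq_multiplicity, hcard, mul_right_comm,
      Nat.factorization_mul (Nat.mul_ne_zero (by omega) (by omega)) hp.ne_zero,
      Finsupp.add_apply, hp.factorization_self, Nat.factorization_eq_zero_of_not_dvd, zero_add,
      pow_one]
    intro h
    rcases hp.dvd_mul.1 h with h' | h'
    · rw [Nat.dvd_add_self_left, Nat.dvd_one] at h'
      omega
    · exact hpndvd dvd_rfl h'
  -- the fixed point of a Sylow subgroup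
  have hfix : ∀ P : Sylow p G, ∃! γ : Ω, ∀ g ∈ P, g • γ = γ := by
    intro P
    have hmod := P.2.card_modEq_card_fixedPoints Ω
    have hne : (fixedPoints P Ω).Nonempty := by
      rw [← Set.nonempty_coe_sort]
      by_contra h
      haveI := not_nonempty_iff.1 h
      rw [Nat.card_of_isEmpty (α := fixedPoints P Ω), hn] at hmod
      have : p ∣ p + 1 := Nat.modEq_zero_iff_dvd.1 hmod
      rw [Nat.dvd_add_self_left, Nat.dvd_one] at this
      omega
    obtain ⟨γ, hγ⟩ := hne
    refine ⟨γ, fun g hg => hγ ⟨g, hg⟩, fun δ hδ => ?_⟩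
    by_contra hne'
    obtain ⟨g, hgγ, hgδ⟩ := H.pair (Ne.symm hne') (H.t_ne ω).symm
    have hle : (P : Subgroup G).map (MulAut.conj g).toMonoidHom ≤ KOf a ω := by
      rintro _ ⟨x, hx, rfl⟩
      refine mem_KOf.2 ⟨?_, ?_⟩
      · show (g * x * g⁻¹) • ω = ω
        rw [← hgγ, mul_smul, inv_smul_smul, mul_smul, show x • γ = γ from hγ ⟨x, hx⟩]
      · show (g * x * g⁻¹) • tOf a Ω • ω = tOf a Ω • ω
        rw [← hgδ, mul_smul, inv_smul_smul, mul_smul, hδ x hx]
    have h1 := Subgroup.card_dvd_of_le hle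
    rw [Subgroup.card_map_of_injective (MulAut.conj g).injective, hK] at h1
    have h2 : p ∣ p - 1 := by
      rw [show Nat.card Ω - 2 = p - 1 by omega, hPcard P] at h1
      exact h1
    exact hpndvd dvd_rfl h2
  choose f hf hfu using hfix
  have hequiv : ∀ (g : G) (P : Sylow p G), f (g • P) = g • f P := by
    intro g P
    refine (hfu (g • P) (g • f P) fun x hx => ?_).symm
    change x ∈ ((g • P : Sylow p G) : Subgroup G) at hx
    rw [Sylow.coe_subgroup_smul, Subgroup.mem_pointwise_smul_iff_inv_smul_mem] at hx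
    have h := hf P _ hx
    have e : ((MulAut.conj g)⁻¹ • x : G) = g⁻¹ * x * g := by simp
    rw [e, mul_smul, mul_smul, inv_smul_eq_iff] at h
    exact h
  have hfinj : Function.Injective f := by
    intro P Q hPQ
    have hP : (P : Subgroup G) ≤ stabilizer G (f P) := fun g hg => hf P g hg
    have hQ : (Q : Subgroup G) ≤ stabilizer G (f P) := fun g hg => hPQ ▸ hf Q g hg
    refine Sylow.subtype_injective (hP := hP) (hQ := hQ) ?_
    have h1 := card_sylow_modEq_one p (stabilizer G (f P))
    have h2 : Nat.card (Sylow p (stabilizer G (f P))) ∣ p - 1 := by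
      have h4 := (P.subtype hP).card_dvd_index
      have h5 := Subgroup.card_mul_index (P.subtype hP : Subgroup (stabilizer G (f P)))
      have h6 : Nat.card (P.subtype hP : Subgroup (stabilizer G (f P))) = p :=
        (Nat.card_congr (Subgroup.subgroupOfEquivOfLe hP).toEquiv).trans (hPcard P)
      rw [h6, hstab] at h5
      rwa [Nat.eq_of_mul_eq_mul_left hp.pos h5] at h4
    have h7 : Nat.card (Sylow p (stabilizer G (f P))) = 1 := by
      have hlt : Nat.card (Sylow p (stabilizer G (f P))) < p :=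
        lt_of_le_of_lt (Nat.le_of_dvd (by omega) h2) (by omega)
      exact h1.eq_of_lt_of_lt hlt hp.one_lt
    haveI := (Nat.card_eq_one_iff_unique.1 h7).1
    exact Subsingleton.elim _ _
  have hfsurj : Function.Surjective f := by
    intro γ
    obtain ⟨P⟩ : Nonempty (Sylow p G) := inferInstance
    obtain ⟨g, hg⟩ := exists_smul_eq G (f P) γ
    exact ⟨g • P, (hequiv g P).trans hg⟩
  refine ⟨p, hp, hp3, hcard, ?_, fun g hg => H.eq_one_of_smul_eq_self fun γ => ?_,
    s, tOf a Ω, hs2, H.t_sq, hs1, H.t_ne_one,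
    fun e => H.t_ne ω (by rw [← e]; exact (mem_KOf.1 hs).1), H.s_comm_t hs hs2 hs1⟩
  · rw [Nat.card_eq_of_bijective f ⟨hfinj, hfsurj⟩, hn]
  · obtain ⟨P, rfl⟩ := hfsurj γ
    rw [← hequiv, hg]

variable {p : ℕ}

theorem Good.small [Fintype (Sylow p G)] [DecidableEq (Sylow p G)] (hG : Good G p) :
    CfsgLib.PrimeAddOne.Small (MulAction.toPermHom G (Sylow p G)).range p (p - 1) := by
  haveI := Fact.mk hG.prime
  refine ⟨hG.prime, by rw [← Nat.card_eq_fintype_card, hG.card_sylow], ⟨fun P Q => ?_⟩, ?_,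
    Nat.sub_lt hG.prime.pos one_pos⟩
  · obtain ⟨g, hg⟩ := exists_smul_eq G P Q
    exact ⟨⟨_, g, rfl⟩, hg⟩
  · rw [← hG.card]
    refine (Nat.card_congr (MonoidHom.ofInjective ?_).toEquiv).symm
    rw [injective_iff_map_eq_one]
    exact fun g hg => hG.faithful g fun P => Equiv.ext_iff.1 hg P

theorem Good.mulEquiv (hG : Good G p) :
    Nonempty (G ≃* Matrix.ProjGenLinGroup (Fin 2) (ZMod p)) := by
  classical
  haveI := Fact.mk hG.prime
  haveI := Fintype.ofFinite (Sylow p G)
  obtain ⟨e⟩ := CfsgLib.PrimeAddOne.pgl_of_full hG.small rfl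
  refine ⟨(MonoidHom.ofInjective ?_).trans e⟩
  rw [injective_iff_map_eq_one]
  exact fun g hg => hG.faithful g fun P => Equiv.ext_iff.1 hg P

theorem Good.sylow_card (hG : Good G p) (P : Sylow p G) : Nat.card P = p := by
  haveI := Fact.mk hG.prime
  have := hG.three_lt
  rw [P.card_eq_multiplicity, hG.card, mul_right_comm,
    Nat.factorization_mul (Nat.mul_ne_zero (by omega) (by omega)) hG.prime.ne_zero,
    Finsupp.add_apply, hG.prime.factorization_self, Nat.factorization_eq_zero_of_not_dvd,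
    zero_add, pow_one]
  intro h
  rcases hG.prime.dvd_mul.1 h with h' | h'
  · rw [Nat.dvd_add_self_left, Nat.dvd_one] at h'
    omega
  · have := Nat.le_of_dvd (by omega) h'
    omega

theorem Good.eq_one_of_mem_two (hG : Good G p) {P Q : Sylow p G} (hPQ : P ≠ Q) {x : G}
    (hx : x ∈ P) (hxQ : x • Q = Q) : x = 1 := by
  haveI := Fact.mk hG.prime
  by_contra hx1
  have hxn : x ∈ Subgroup.normalizer ((Q : Subgroup G) : Set G) := Sylow.smul_eq_iff_mem_normalizer.1 hxQ
  have hzp : IsPGroup p (zpowers x) :=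
    IsPGroup.to_le P.2 (Subgroup.zpowers_le.2 hx)
  have h1 := IsPGroup.inf_normalizer_sylow hzp Q
  have hxQ' : x ∈ (Q : Subgroup G) := by
    have : x ∈ zpowers x ⊓ Subgroup.normalizer ((Q : Subgroup G) : Set G) := ⟨mem_zpowers x, hxn⟩
    exact (h1.le this).2
  apply hPQ
  refine Sylow.ext (le_antisymm ?_ ?_)
  · intro y hy
    haveI : Fact (Nat.Prime p) := ⟨hG.prime⟩
    obtain ⟨i, hi⟩ := mem_zpowers_iff.1
      (mem_zpowers_of_prime_card (p := p) (g := (⟨x, hx⟩ : P)) (g' := ⟨y, hy⟩) (hG.sylow_card P)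
        (fun e => hx1 (congrArg Subtype.val e)))
    have hi' : x ^ i = y := congrArg Subtype.val hi
    exact hi' ▸ zpow_mem hxQ' i
  · intro y hy
    obtain ⟨i, hi⟩ := mem_zpowers_iff.1
      (mem_zpowers_of_prime_card (p := p) (g := (⟨x, hxQ'⟩ : Q)) (g' := ⟨y, hy⟩) (hG.sylow_card Q)
        (fun e => hx1 (congrArg Subtype.val e)))
    have hi' : x ^ i = y := congrArg Subtype.val hi
    exact hi' ▸ zpow_mem hx i

/-- Every element acts on a normal `PGL(2, p)` as an inner automorphism. -/
theorem Good.extend {C : Subgroup G} [C.Normal] (hC : Good C p) (g : G) :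
    ∃ c ∈ C, ∀ z ∈ C, (c⁻¹ * g) * z = z * (c⁻¹ * g) := by
  classical
  haveI := Fact.mk hC.prime
  haveI := Fintype.ofFinite (Sylow p C)
  have hp3 := hC.three_lt
  obtain ⟨h3, -⟩ := CfsgLib.PrimeAddOne.three_trans hC.small rfl
  haveI := h3
  obtain ⟨u⟩ := Function.Embedding.nonempty_of_card_le (α := Fin 2) (β := Sylow p C)
    (by rw [Fintype.card_fin, ← Nat.card_eq_fintype_card, hC.card_sylow]; omega)
  have hu : u 0 ≠ u 1 := u.injective.ne (by decide)
  -- a nontrivial element of the first Sylow subgroup moves the second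
  obtain ⟨⟨x, hx⟩, hx1⟩ : ∃ x : (u 0 : Subgroup C), x ≠ 1 := by
    haveI : Nontrivial (u 0 : Subgroup C) := Finite.one_lt_card_iff_nontrivial.1
      (by rw [hC.sylow_card]; omega)
    exact exists_ne 1
  have hx1' : x ≠ 1 := fun e => hx1 (Subtype.ext e)
  have hxu : x • u 0 = u 0 :=
    Sylow.smul_eq_iff_mem_normalizer.2 (Subgroup.le_normalizer hx)
  have h02 : u 0 ≠ x • u 1 := fun e => hu (by
    rw [← hxu] at e; exact MulAction.injective x e)
  have h12 : u 1 ≠ x • u 1 := fun e => hx1' (hC.eq_one_of_mem_two hu hx e.symm)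
  let v : Fin 3 ↪ Sylow p C := ⟨![u 0, u 1, x • u 1], by
    intro i j h
    fin_cases i <;> fin_cases j <;> simp_all [Ne.symm]⟩
  let σ : G →* MulAut C := MulAut.conjNormal
  have hσC : ∀ (c : C) (P : Sylow p C), σ (c : G) • P = c • P := by
    intro c P
    have : σ (c : G) = MulAut.conj c := MulEquiv.ext fun z => Subtype.ext (by simp [σ])
    rw [this, Sylow.smul_def]
  let w : Fin 3 ↪ Sylow p C := v.trans ⟨fun P => σ g • P, MulAction.injective _⟩
  obtain ⟨⟨_, c, rfl⟩, hc⟩ := exists_smul_eq (MulAction.toPermHom C (Sylow p C)).range v w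
  have hcv : ∀ i, c • v i = σ g • v i := fun i => congrArg (fun e : Fin 3 ↪ Sylow p C => e i) hc
  set y := (c : G)⁻¹ * g with hy
  have hyv : ∀ i, σ y • v i = v i := by
    intro i
    rw [hy, map_mul, map_inv, mul_smul, ← hcv i, inv_smul_eq_iff, hσC]
  have hσmul : ∀ (z : C) (P : Sylow p C), σ y • (z • P) = (σ y z) • (σ y • P) := by
    intro z P
    rw [← hσC, ← hσC, ← mul_smul, ← mul_smul]
    congr 1
    refine MulEquiv.ext fun d => Subtype.ext ?_
    simp [σ, mul_assoc]
  have hσx : σ y x = x := by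
    have h1 : σ y x ∈ (u 0 : Subgroup C) := by
      have h := hyv 0
      have h' : σ y • u 0 = u 0 := h
      have : σ y x ∈ ((σ y • u 0 : Sylow p C) : Subgroup C) := by
        rw [Sylow.pointwise_smul_def]
        exact Subgroup.smul_mem_pointwise_smul x (σ y) _ hx
      rwa [h'] at this
    have h2 : σ y x • u 1 = x • u 1 := by
      have h := hσmul x (u 1)
      rw [show σ y • u 1 = u 1 from hyv 1, show σ y • (x • u 1) = x • u 1 from hyv 2] at h
      exact h.symm
    have h3 := hC.eq_one_of_mem_two hu (mul_mem (inv_mem hx) h1)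
      (by rw [mul_smul, h2, inv_smul_smul])
    exact (inv_mul_eq_one.1 h3).symm
  have hfix : ∀ P : Sylow p C, σ y • P = P := by
    intro P
    rcases eq_or_ne P (u 0) with rfl | hP
    · exact hyv 0
    let R := {Q : Sylow p C // Q ≠ u 0}
    have hz0 : ∀ z : (u 0 : Subgroup C), (z : C) • u 1 ≠ u 0 := fun z e => hu (by
      have hzu : (z : C) • u 0 = u 0 := Sylow.smul_eq_iff_mem_normalizer.2 (Subgroup.le_normalizer z.2)
      exact (MulAction.injective (z : C) (hzu.trans e.symm)))
    let F : (u 0 : Subgroup C) → R := fun z => ⟨(z : C) • u 1, hz0 z⟩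
    have hF : Function.Injective F := fun z z' e => by
      have e' : (z : C) • u 1 = (z' : C) • u 1 := congrArg Subtype.val e
      have h3 := hC.eq_one_of_mem_two hu (mul_mem (inv_mem z'.2) z.2)
        (by rw [mul_smul, e', inv_smul_smul])
      exact Subtype.ext (inv_mul_eq_one.1 h3).symm
    have hR : Nat.card R = p := by
      rw [Nat.card_eq_fintype_card, Fintype.card_subtype_compl, Fintype.card_subtype_eq,
        ← Nat.card_eq_fintype_card, hC.card_sylow, Nat.add_sub_cancel]
    obtain ⟨⟨z, hz⟩, hzP⟩ := ((Nat.bijective_iff_injective_and_card F).2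
      ⟨hF, (hC.sylow_card _).trans hR.symm⟩).2 ⟨P, hP⟩
    have hzP' : z • u 1 = P := congrArg Subtype.val hzP
    obtain ⟨i, hi⟩ := mem_zpowers_iff.1
      (mem_zpowers_of_prime_card (p := p) (g := (⟨x, hx⟩ : (u 0 : Subgroup C))) (g' := ⟨z, hz⟩)
        (hC.sylow_card _) hx1)
    have hi' : x ^ i = z := congrArg Subtype.val hi
    have hσz : σ y z = z := by rw [← hi', map_zpow, hσx]
    rw [← hzP', hσmul, hσz, show σ y • u 1 = u 1 from hyv 1]
  refine ⟨c, c.2, fun z hz => ?_⟩
  have h : σ y ⟨z, hz⟩ = ⟨z, hz⟩ := by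
    have h1 := hC.faithful ((⟨z, hz⟩ : C)⁻¹ * σ y ⟨z, hz⟩) fun P => by
      rw [mul_smul, inv_smul_eq_iff]
      have h := hσmul ⟨z, hz⟩ P
      rw [hfix, hfix] at h
      exact h.symm
    exact (inv_mul_eq_one.1 h1).symm
  have h' : y * z * y⁻¹ = z := by
    have := congrArg Subtype.val h
    simpa [σ] using this
  exact mul_inv_eq_iff_eq_mul.1 h'

end CfsgLib.CyclicZ
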